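import Cfsg.Agent.H43.Eleven.Rank

/-!
# S3403: the alternating groups
-/

set_option autoImplicit false
set_option linter.unusedSimpArgs false
set_option linter.style.haveILetI false

namespace Cfsg.Agent.H43.Eleven

open Subgroup Module Matrix

universe u v

/-- the permutation representation over `ℚ` -/
def permRep (n : ℕ) : Equiv.Perm (Fin n) →* Matrix (Fin n) (Fin n) ℚ where
  toFun σ := Matrix.of fun i j => if i = σ j then 1 else 0
  map_one' := by
    ext i j
    rw [Matrix.one_apply]
    rfl
  map_mul' σ τ := by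
    ext i j
    rw [Matrix.mul_apply]
    show (if i = σ (τ j) then (1 : ℚ) else 0) = ∑ k, (if i = σ k then (1 : ℚ) else 0) * (if k = τ j then 1 else 0)
    rw [Finset.sum_eq_single (τ j)]
    · rw [if_pos rfl, mul_one]
    · intro b _ hb
      rw [if_neg hb, mul_zero]
    · intro hb
      exact absurd (Finset.mem_univ _) hb

theorem permRep_apply {n : ℕ} (σ : Equiv.Perm (Fin n)) (i j : Fin n) : permRep n σ i j = if i = σ j then 1 else 0 := rfl

theorem row_alt {n : ℕ} (hn : 5 ≤ n) : Row (alternatingGroup (Fin n)) := by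
  haveI : IsSimpleGroup (alternatingGroup (Fin n)) := by
    apply alternatingGroup.isSimpleGroup
    rw [Nat.card_eq_fintype_card, Fintype.card_fin]
    exact hn
  let f : alternatingGroup (Fin n) →* alternatingGroup (Fin n) := MonoidHom.id _
  let ψ : alternatingGroup (Fin n) →* Matrix (Fin n) (Fin n) ℚ := (permRep n).comp (alternatingGroup (Fin n)).subtype
  have hψ : ∀ (h : alternatingGroup (Fin n)) (i j : Fin n), ψ h i j = if i = h.1 j then 1 else 0 := fun _ _ _ => rfl
  have hker : ∀ h, f h = 1 ↔ ∃ c : ℚ, ψ h = c • 1 := by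
    intro h
    constructor
    · intro h1
      refine ⟨1, ?_⟩
      have : h = 1 := h1
      rw [this, map_one, one_smul]
    · rintro ⟨c, hc⟩
      apply Subtype.ext
      apply Equiv.ext
      intro j
      show h.1 j = j
      by_contra hj
      have h1 := congrFun (congrFun hc (h.1 j)) j
      rw [hψ, if_pos rfl, Matrix.smul_apply, Matrix.one_apply_ne hj, smul_zero] at h1
      exact one_ne_zero h1
  have hJψ : ∀ h, (ψ h).transpose * (1 : Matrix (Fin n) (Fin n) ℚ) * ψ h = 1 := by
    intro h
    ext i j
    rw [mul_one, Matrix.mul_apply]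
    simp only [Matrix.transpose_apply, hψ]
    simp [Matrix.one_apply, eq_comm]
  let a : Fin n := ⟨0, by omega⟩
  let b : Fin n := ⟨1, by omega⟩
  let c : Fin n := ⟨2, by omega⟩
  have hab : a ≠ b := by simp [a, b, Fin.ext_iff]
  have hac : a ≠ c := by simp [a, c, Fin.ext_iff]
  have hbc : b ≠ c := by simp [b, c, Fin.ext_iff]
  let σ : Equiv.Perm (Fin n) := Equiv.swap a b * Equiv.swap b c
  have hσ : σ ∈ alternatingGroup (Fin n) := by
    rw [Equiv.Perm.mem_alternatingGroup, map_mul, Equiv.Perm.sign_swap hab, Equiv.Perm.sign_swap hbc]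
    norm_num
  have hσa : σ a = b := by
    show Equiv.swap a b (Equiv.swap b c a) = b
    rw [Equiv.swap_apply_of_ne_of_ne hab hac, Equiv.swap_apply_left]
  have hσb : σ b = c := by
    show Equiv.swap a b (Equiv.swap b c b) = c
    rw [Equiv.swap_apply_left, Equiv.swap_apply_of_ne_of_ne hac.symm hbc.symm]
  have hσc : σ c = a := by
    show Equiv.swap a b (Equiv.swap b c c) = a
    rw [Equiv.swap_apply_right, Equiv.swap_apply_right]
  have hσo : ∀ j, j ≠ a → j ≠ b → j ≠ c → σ j = j := by
    intro j h1 h2 h3
    show Equiv.swap a b (Equiv.swap b c j) = j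
    rw [Equiv.swap_apply_of_ne_of_ne h2 h3, Equiv.swap_apply_of_ne_of_ne h1 h2]
  let h0 : alternatingGroup (Fin n) := ⟨σ, hσ⟩
  have h0ab : ψ h0 = 1 + Matrix.vecMulVec (Pi.single b 1 - Pi.single a 1) (Pi.single a 1 - Pi.single c 1) +
      Matrix.vecMulVec (Pi.single c 1 - Pi.single b 1) (Pi.single b 1 - Pi.single c 1) := by
    ext i j
    rw [hψ]
    show (if i = σ j then (1 : ℚ) else 0) = _
    simp only [Matrix.add_apply, Matrix.vecMulVec_apply, Pi.sub_apply, Matrix.one_apply]
    by_cases hja : j = a
    · subst hja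
      rw [hσa]
      by_cases h1 : i = a
      · subst h1; simp [hab, hac, hab.symm, hac.symm]
      · by_cases h2 : i = b
        · subst h2; simp [hab, hac, hbc, hab.symm, hac.symm, hbc.symm]
        · simp [hab, hac, hbc, hab.symm, hac.symm, hbc.symm, h1, h2]
    · by_cases hjb : j = b
      · subst hjb
        rw [hσb]
        by_cases h1 : i = a
        · subst h1; simp [hab, hac, hbc, hab.symm, hac.symm, hbc.symm]
        · by_cases h2 : i = b
          · subst h2; simp [hab, hac, hbc, hab.symm, hac.symm, hbc.symm]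
          · by_cases h3 : i = c
            · subst h3; simp [hab, hac, hbc, hab.symm, hac.symm, hbc.symm]
            · simp [hab, hac, hbc, hab.symm, hac.symm, hbc.symm, h1, h2, h3]
      · by_cases hjc : j = c
        · subst hjc
          rw [hσc]
          by_cases h1 : i = a
          · subst h1; simp [hab, hac, hbc, hab.symm, hac.symm, hbc.symm]
          · by_cases h2 : i = b
            · subst h2; simp [hab, hac, hbc, hab.symm, hac.symm, hbc.symm]
            · by_cases h3 : i = c
              · subst h3; simp [hab, hac, hbc, hab.symm, hac.symm, hbc.symm]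
              · simp [hab, hac, hbc, hab.symm, hac.symm, hbc.symm, h1, h2, h3]
        · rw [hσo j hja hjb hjc]
          simp [hja, hjb, hjc]
  refine row_nine (by norm_num : (11 : ℚ) ≠ 0) (f := f) (fun x => ⟨x, rfl⟩) ψ hker (J := 1) isUnit_one hJψ (h0 := h0) ?_ h0ab
  intro h1
  have h2 : σ = 1 := congrArg Subtype.val (show h0 = 1 from h1)
  rw [h2] at hσa
  exact hab hσa

end Cfsg.Agent.H43.Eleven
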