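import Cfsg.Agent.H43.Eleven.ClassA
import Cfsg.Agent.H181.FormNondeg

/-!
# S3403: the orthogonal families in characteristic `≠ 11`
-/

set_option autoImplicit false

namespace Cfsg.Agent.H43.Eleven

open Subgroup Module Matrix Cfsg LieClassical.OrthForms

universe u v

theorem row_pomegaOdd {F : Type} [Field F] [Fintype F] (h11 : (11 : F) ≠ 0) {m : ℕ} (hm : 3 ≤ m)
    (hodd : Odd (Fintype.card F)) [IsSimpleGroup (POmega F (quadFormOdd m F))] : Row (POmega F (quadFormOdd m F)) := by
  have h2 : (2 : F) ≠ 0 := by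
    intro h0
    have h3 := FiniteField.odd_card_of_char_ne_two (F := F)
    have h4 : ringChar F = 2 := by
      have : ringChar F ∣ 2 := ringChar.dvd (by exact_mod_cast h0)
      rcases (Nat.dvd_prime Nat.prime_two).1 this with h5 | h5
      · have : (1 : F) = 0 := by
          have := ringChar.spec F 1
          rw [h5] at this
          exact_mod_cast this.2 dvd_rfl
        exact absurd this one_ne_zero
      · exact h5
    have h5 := FiniteField.even_card_of_char_two h4
    rw [Nat.odd_iff] at hodd
    omega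
  let i : Fin m := ⟨0, by omega⟩
  haveI : IsSimpleGroup (POmega F ⇑(oddForm m F)) := by rw [coe_oddForm]; infer_instance
  have := row_omega h11 (oddForm m F) (H181.FormNondeg.odd_nondegenerate m F h2)
    (by simp; omega)
    ⟨Pi.single (Sum.inr (Sum.inl i)) 1, by simp, (H181.FormNondeg.hypCoord_odd m F).Qa i⟩
  rw [coe_oddForm] at this
  exact this

theorem row_pomegaPlus {F : Type} [Field F] [Fintype F] (h11 : (11 : F) ≠ 0) {m : ℕ} (hm : 4 ≤ m)
    [IsSimpleGroup (POmega F (quadFormPlus m F))] : Row (POmega F (quadFormPlus m F)) := by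
  let i : Fin m := ⟨0, by omega⟩
  haveI : IsSimpleGroup (POmega F ⇑(plusForm m F)) := by rw [coe_plusForm]; infer_instance
  have := row_omega h11 (plusForm m F) (H181.FormNondeg.plus_nondegenerate m F)
    (by simp; omega)
    ⟨Pi.single (Sum.inl i) 1, by simp, (H181.FormNondeg.hypCoord_plus m F).Qa i⟩
  rw [coe_plusForm] at this
  exact this

theorem row_pomegaMinus {F : Type} [Field F] [Fintype F] (h11 : (11 : F) ≠ 0) {m : ℕ} (hm : 3 ≤ m) (a b : F)
    (hab : ∀ z₁ z₂ : F, z₁ ^ 2 + a * z₁ * z₂ + b * z₂ ^ 2 = 0 → z₁ = 0 ∧ z₂ = 0)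
    [IsSimpleGroup (POmega F (quadFormMinus m F a b))] : Row (POmega F (quadFormMinus m F a b)) := by
  let i : Fin m := ⟨0, by omega⟩
  haveI : IsSimpleGroup (POmega F ⇑(minusForm m F a b)) := by rw [coe_minusForm]; infer_instance
  have := row_omega h11 (minusForm m F a b) (H181.FormNondeg.minus_nondegenerate m F a b hab)
    (by simp; omega)
    ⟨Pi.single (Sum.inl (Sum.inl i)) 1, by simp, (H181.FormNondeg.hypCoord_minus m F a b).Qa i⟩
  rw [coe_minusForm] at this
  exact this

end Cfsg.Agent.H43.Eleven
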