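import Cfsg.Agent.H43.Eleven.ClassC
import Cfsg.Agent.LieClassical.HermGen
import Cfsg.Agent.ClassicalGeometry.PSUAutBasic

/-!
# S3403: the groups `PSU(n, q)` in characteristic `≠ 11`
-/

set_option autoImplicit false
set_option linter.style.haveILetI false

namespace Cfsg.Agent.H43.Eleven

open Subgroup Module Matrix Cfsg LieClassical.HermBasic LieClassical.HermSiegel

universe u v w

/-- the matrices of `SU` -/
def suRep (n : ℕ) (F : Type) [Field F] (q : ℕ) : SU n F q →* Matrix (Fin n) (Fin n) F where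
  toFun := mat
  map_one' := mat_one
  map_mul' := mat_mul

theorem suRep_mulVec {n : ℕ} {F : Type} [Field F] {q : ℕ} (g : SU n F q) (v : Fin n → F) : suRep n F q g *ᵥ v = act g v :=
  rfl

variable {F : Type} [Field F] [Fintype F] {q : ℕ}

theorem su_ker (hF : Fintype.card F = q ^ 2) {n : ℕ} (hn : 3 ≤ n) (h : SU n F q) :
    (QuotientGroup.mk' _ h : PSU n F q) = 1 ↔ ∃ c : F, suRep n F q h = c • 1 := by
  have h1 : (QuotientGroup.mk' _ h : PSU n F q) = 1 ↔ h ∈ center (SU n F q) := QuotientGroup.eq_one_iff h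
  rw [h1]
  constructor
  · intro h2
    obtain ⟨c, -, -, h3⟩ := ClassicalGeometry.PSUAutBasic.exists_scalar_of_mem_center hF hn h2
    refine ⟨c, ?_⟩
    apply Matrix.mulVec_injective
    funext x
    rw [suRep_mulVec, h3, Matrix.smul_mulVec, Matrix.one_mulVec]
  · rintro ⟨c, hc⟩
    refine ClassicalGeometry.PSUAutBasic.mem_center_of_act (c := c) fun v => ?_
    rw [← suRep_mulVec, hc, Matrix.smul_mulVec, Matrix.one_mulVec]

omit [Fintype F] in
theorem isSiegel_zero {n : ℕ} {u : Fin n → F} {κ : F} (hu : hermForm n F q u u = 0) (hκ : κ + κ ^ q = 0) :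
    IsSiegel q u 0 κ :=
  ⟨hu, herm_zero_left _, by rw [herm_zero_left, add_zero, hκ]⟩

theorem suRep_siegel (hF : Fintype.card F = q ^ 2) {n : ℕ} {u : Fin n → F} {κ : F} (hs : IsSiegel q u 0 κ) :
    suRep n F q (siegel hF u 0 κ hs) = 1 + Matrix.vecMulVec u (fun j => κ * u j ^ q) := by
  show siegelMat q u 0 κ = _
  rw [siegelMat, Matrix.zero_vecMulVec, zero_add]
  congr 2
  funext j
  rw [Pi.zero_apply, zero_pow_q hF, sub_zero]

theorem not_scalar_of_rank_one {k : Type*} [Field k] {ι : Type*} [Fintype ι] [DecidableEq ι] (hN : 2 ≤ Fintype.card ι)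
    {a b : ι → k} (ha : a ≠ 0) (hb : b ≠ 0) (c : k) : 1 + Matrix.vecMulVec a b ≠ c • (1 : Matrix ι ι k) := by
  intro h
  have h1 : (c - 1) • (1 : Matrix ι ι k) = Matrix.vecMulVec a b := by
    rw [sub_smul, one_smul, ← h, add_sub_cancel_left]
  by_cases hc : c = 1
  · rw [hc, sub_self, zero_smul] at h1
    obtain ⟨i, hi⟩ := Function.ne_iff.1 ha
    obtain ⟨j, hj⟩ := Function.ne_iff.1 hb
    have h2 := congrFun (congrFun h1 i) j
    rw [Matrix.zero_apply, Matrix.vecMulVec_apply] at h2
    exact mul_ne_zero hi hj h2.symm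
  · have h2 : ((c - 1) • (1 : Matrix ι ι k)).rank ≤ 1 := by
      rw [h1]
      exact Matrix.rank_vecMulVec_le _ _
    rw [Lin.rank_smul_ne (sub_ne_zero.2 hc), Matrix.rank_one] at h2
    omega

theorem exists_trans (hF : Fintype.card F = q ^ 2) {n : ℕ} (hn : 3 ≤ n) :
    ∃ (h0 : SU n F q) (a b : Fin n → F), suRep n F q h0 = 1 + Matrix.vecMulVec a b ∧
      (QuotientGroup.mk' _ h0 : PSU n F q) ≠ 1 := by
  have hij : (⟨0, by omega⟩ : Fin n) ≠ ⟨1, by omega⟩ := by simp
  obtain ⟨p, p', a, b, ha, hp, hp', hpp, hp'p', hpp'⟩ := LieClassical.HermGen.exists_hyp_pair (q := q) hF hij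
  obtain ⟨κ, hκ0, hκ⟩ := exists_trace_zero_ne hF
  have hs := isSiegel_zero (n := n) hpp hκ
  refine ⟨siegel hF p 0 κ hs, p, _, suRep_siegel hF hs, ?_⟩
  rw [Ne, su_ker hF hn]
  rintro ⟨c, hc⟩
  rw [suRep_siegel hF hs] at hc
  have hp0 : p ≠ 0 := by
    rintro rfl
    rw [herm_zero_left] at hpp'
    exact zero_ne_one hpp'
  refine not_scalar_of_rank_one (by rw [Fintype.card_fin]; omega) hp0 ?_ c hc
  intro h0
  obtain ⟨i, hi⟩ := Function.ne_iff.1 hp0
  have h1 := congrFun h0 i
  rw [Pi.zero_apply] at h1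
  rcases mul_eq_zero.1 h1 with h2 | h2
  · exact hκ0 h2
  · exact hi ((pow_q_eq_zero hF).1 h2)

theorem row_psu_small (h11 : (11 : F) ≠ 0) (hF : Fintype.card F = q ^ 2) {n : ℕ} (hn3 : 3 ≤ n) (hn : n ≤ 4)
    [IsSimpleGroup (PSU n F q)] : Row (PSU n F q) :=
  row_small h11 (QuotientGroup.mk'_surjective _) (suRep n F q) (su_ker hF hn3) (by rw [Fintype.card_fin]; exact hn)

theorem row_psu_six (h11 : (11 : F) ≠ 0) (hF : Fintype.card F = q ^ 2) {n : ℕ} (hn : 6 ≤ n)
    [IsSimpleGroup (PSU n F q)] : Row (PSU n F q) := by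
  obtain ⟨h0, a, b, h0ab, h01⟩ := exists_trans hF (n := n) (by omega)
  exact row_five h11 (QuotientGroup.mk'_surjective _) (suRep n F q) (su_ker hF (by omega))
    (by rw [Fintype.card_fin]; exact hn) h01 h0ab

omit [Fintype F] in
/-- the left vectors `h(-, u)` -/
theorem dot_pow {n : ℕ} (κ : F) (u w : Fin n → F) : (fun j => κ * u j ^ q) ⬝ᵥ w = κ * hermForm n F q w u := by
  rw [herm_def, dotProduct, Finset.mul_sum]
  exact Finset.sum_congr rfl fun i _ => by ring

omit [Fintype F] in
theorem exists_herm_ne {n : ℕ} {v : Fin n → F} (hv : v ≠ 0) : ∃ w : Fin n → F, hermForm n F q w v ≠ 0 := by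
  obtain ⟨i, hi⟩ := Function.ne_iff.1 hv
  refine ⟨Pi.single i 1, ?_⟩
  rw [herm_single_left, one_mul]
  exact pow_ne_zero _ hi

/-- eigenvectors of the lift are anisotropic with eigenvalue of norm 1 -/
theorem psu_five_eig (h11 : (11 : F) ≠ 0) (hF : Fintype.card F = q ^ 2) [IsSimpleGroup (PSU 5 F q)]
    (hc : ∃ a b : PSU 5 F q, a * b ≠ b * a) {P : Subgroup (PSU 5 F q)} (hP : Cfg P) {x : PSU 5 F q} (hxP : x ∈ P)
    (hx : orderOf x = 11) {h : SU 5 F q} (hh : (QuotientGroup.mk' _ h : PSU 5 F q) = x) {v : Fin 5 → F} (hv : v ≠ 0)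
    {c : F} (hA : act h v = c • v) : c * c ^ q = 1 ∧ hermForm 5 F q v v ≠ 0 := by
  have hf : Function.Surjective (QuotientGroup.mk' _ : SU 5 F q →* PSU 5 F q) := QuotientGroup.mk'_surjective _
  have hker := su_ker hF (n := 5) (by norm_num)
  have hc0 : c ≠ 0 := eigval_ne_zero (suRep 5 F q) hv hA
  have h1 : ∀ w, c ^ q * hermForm 5 F q (act h w) v = hermForm 5 F q w v := by
    intro w
    rw [← herm_smul_right, ← hA, herm_act]
  by_cases hvv : hermForm 5 F q v v = 0
  · exfalso
    obtain ⟨κ, hκ0, hκ⟩ := exists_trace_zero_ne hF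
    have hs := isSiegel_zero (n := 5) hvv hκ
    have h2 := hP.eig_comm h11 hf (suRep 5 F q) hker hc hxP hx hh hv hA (k := siegel hF v 0 κ hs)
      (φ := fun j => κ * v j ^ q) (by rw [dot_pow, hvv, mul_zero]) (suRep_siegel hF hs)
    have h3 : ∀ w, hermForm 5 F q (act h w) v = c * hermForm 5 F q w v := by
      intro w
      have h4 : ((fun j => κ * v j ^ q) ᵥ* suRep 5 F q h) ⬝ᵥ w = (c • fun j => κ * v j ^ q) ⬝ᵥ w := by rw [h2]
      rw [← Matrix.dotProduct_mulVec, suRep_mulVec, smul_dotProduct, dot_pow, dot_pow, smul_eq_mul] at h4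
      have h5 : κ * (hermForm 5 F q (act h w) v - c * hermForm 5 F q w v) = 0 := by linear_combination h4
      rcases mul_eq_zero.1 h5 with h6 | h6
      · exact absurd h6 hκ0
      · exact sub_eq_zero.1 h6
    -- the range of `A - c`
    let L : (Fin 5 → F) →ₗ[F] F :=
      { toFun := fun w => hermForm 5 F q w v
        map_add' := fun a b => herm_add_left a b v
        map_smul' := fun a b => herm_smul_left a b v }
    have hL : L ≠ 0 := by
      obtain ⟨w, hw⟩ := exists_herm_ne (q := q) hv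
      intro h0
      exact hw (congrArg (fun L => L w) h0)
    have hdim : finrank F (LinearMap.ker L) = 4 := by
      have h5 := LinearMap.finrank_range_add_finrank_ker L
      rw [LinearMap.range_eq_top.2 (LinearMap.surjective hL), finrank_top, finrank_self, finrank_fintype_fun_eq_card,
        Fintype.card_fin] at h5
      omega
    have hle : LinearMap.range (suRep 5 F q h - c • 1).mulVecLin ≤ LinearMap.ker L := by
      rintro _ ⟨w, rfl⟩
      rw [LinearMap.mem_ker, Matrix.mulVecLin_apply, Matrix.sub_mulVec, Matrix.smul_mulVec, Matrix.one_mulVec,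
        suRep_mulVec]
      show hermForm 5 F q (act h w - c • w) v = 0
      rw [herm_sub_left, h3, herm_smul_left, sub_self]
    have hrk := (hP.rank_ge h11 hf (suRep 5 F q) hker hc hxP hx hh c).2
    have heq : LinearMap.range (suRep 5 F q h - c • 1).mulVecLin = LinearMap.ker L := by
      apply Submodule.eq_of_le_of_finrank_le hle
      rw [hdim]
      exact hrk
    obtain ⟨w, hw⟩ : v ∈ LinearMap.range (suRep 5 F q h - c • 1).mulVecLin := by
      rw [heq, LinearMap.mem_ker]
      exact hvv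
    rw [Matrix.mulVecLin_apply, Matrix.sub_mulVec, Matrix.smul_mulVec, Matrix.one_mulVec, sub_eq_iff_eq_add] at hw
    have hpv : ∀ n : ℕ, (suRep 5 F q h) ^ n *ᵥ v = c ^ n • v := by
      intro n
      induction n with
      | zero => simp
      | succ n ih =>
        rw [pow_succ, ← Matrix.mulVec_mulVec, suRep_mulVec, hA, Matrix.mulVec_smul, ih, smul_smul, pow_succ, mul_comm]
    have hpw : ∀ n : ℕ, (suRep 5 F q h) ^ n *ᵥ w = c ^ n • w + ((n : F) * c ^ (n - 1)) • v := by
      intro n
      induction n with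
      | zero => simp
      | succ n ih =>
        rw [pow_succ, ← Matrix.mulVec_mulVec, hw, Matrix.mulVec_add, Matrix.mulVec_smul, ih, hpv]
        rcases n with _ | n
        · simp [add_comm]
        · simp only [Nat.add_sub_cancel, smul_add, smul_smul]
          rw [add_comm (c ^ (n + 1) • v), add_assoc, ← add_smul]
          congr 1
          · rw [pow_succ c (n + 1), mul_comm]
          · congr 1
            push_cast
            ring
    obtain ⟨μ, hμ⟩ := (hker (h ^ 11)).1 (by rw [map_pow, hh, ← hx, pow_orderOf_eq_one])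
    rw [map_pow] at hμ
    have e1 := hpv 11
    have e2 := hpw 11
    rw [hμ, Matrix.smul_mulVec, Matrix.one_mulVec] at e1 e2
    have e3 : μ = c ^ 11 := by
      have h5 : (μ - c ^ 11) • v = 0 := by rw [sub_smul, e1, sub_self]
      rcases smul_eq_zero.1 h5 with h6 | h6
      · exact sub_eq_zero.1 h6
      · exact absurd h6 hv
    rw [e3] at e2
    have e4 : (((11 : ℕ) : F) * c ^ (11 - 1)) • v = 0 := by
      have := e2
      rw [left_eq_add] at this
      exact this
    rcases smul_eq_zero.1 e4 with h6 | h6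
    · rcases mul_eq_zero.1 h6 with h7 | h7
      · exact h11 (by exact_mod_cast h7)
      · exact pow_ne_zero _ hc0 h7
    · exact hv h6
  · refine ⟨?_, hvv⟩
    have h2 := h1 v
    rw [hA, herm_smul_left] at h2
    have h3 : (c * c ^ q - 1) * hermForm 5 F q v v = 0 := by linear_combination h2
    rcases mul_eq_zero.1 h3 with h4 | h4
    · exact sub_eq_zero.1 h4
    · exact absurd h4 hvv

theorem row_psu_five (h11 : (11 : F) ≠ 0) (hF : Fintype.card F = q ^ 2) [IsSimpleGroup (PSU 5 F q)] :
    Row (PSU 5 F q) := by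
  intro hc P hP _
  exfalso
  let f : SU 5 F q →* PSU 5 F q := QuotientGroup.mk' _
  have hf : Function.Surjective f := QuotientGroup.mk'_surjective _
  have hker : ∀ h, f h = 1 ↔ ∃ c : F, suRep 5 F q h = c • 1 := su_ker hF (n := 5) (by norm_num)
  obtain ⟨h0, a, b, h0ab, h01⟩ := exists_trans hF (n := 5) (by norm_num)
  obtain ⟨x, h, c, v, hxP, hx, hh, hv, hA⟩ := hP.exists_eigvec hf (suRep 5 F q) (by simp) hc h01 h0ab
  obtain ⟨g, d, hdc, hA1⟩ := hP.second h11 hf (suRep 5 F q) hker (by simp) hc hxP hx hh hv hA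
  rw [suRep_mulVec] at hA
  simp only [suRep_mulVec] at hA1
  obtain ⟨v1, hv1def⟩ : ∃ v1, v1 = act g v := ⟨_, rfl⟩
  rw [← hv1def] at hA1
  have hv1 : v1 ≠ 0 := by
    rw [hv1def]
    exact fun h0 => hv ((act_eq_zero g).1 h0)
  obtain ⟨hcn, hvv⟩ := psu_five_eig h11 hF hc hP hxP hx hh hv hA
  obtain ⟨hdn, hvv1⟩ := psu_five_eig h11 hF hc hP hxP hx hh hv1 hA1
  -- orthogonality
  have hor : hermForm 5 F q v v1 = 0 := by
    have h1 := herm_act h v v1
    rw [hA, hA1, herm_smul_left, herm_smul_right] at h1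
    have h2 : (c - d) * hermForm 5 F q v v1 = 0 := by
      have h3 : (c * d ^ q - 1) * hermForm 5 F q v v1 = 0 := by linear_combination h1
      have h4 : (c - d) * hermForm 5 F q v v1 = d * ((c * d ^ q - 1) * hermForm 5 F q v v1) +
        (1 - d * d ^ q) * (c * hermForm 5 F q v v1) := by ring
      rw [h4, h3, hdn]
      ring
    rcases mul_eq_zero.1 h2 with h3 | h3
    · exact absurd (sub_eq_zero.1 h3).symm hdc
    · exact h3
  have hor' : hermForm 5 F q v1 v = 0 := herm_eq_zero_swap hF hor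
  -- an isotropic vector in the plane
  have hfix : (-(hermForm 5 F q v v) / hermForm 5 F q v1 v1) ^ q = -(hermForm 5 F q v v) / hermForm 5 F q v1 v1 := by
    rw [div_pow, neg_pow_q hF, herm_self_pow hF, herm_self_pow hF]
  obtain ⟨l, hl0, hl⟩ := exists_norm_eq_ne hF hfix (div_ne_zero (neg_ne_zero.2 hvv) hvv1)
  obtain ⟨u, hu⟩ : ∃ u, u = v + l • v1 := ⟨_, rfl⟩
  have huu : hermForm 5 F q u u = 0 := by
    rw [hu, herm_add_left, herm_add_right hF, herm_add_right hF, herm_smul_left, herm_smul_left, herm_smul_right,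
      herm_smul_right, hor, hor']
    have h3 : l * l ^ q * hermForm 5 F q v1 v1 = -(hermForm 5 F q v v) := by
      rw [hl, div_mul_cancel₀ _ hvv1]
    linear_combination h3
  have hu0 : u ≠ 0 := by
    intro h0
    have h1 : hermForm 5 F q u v = 0 := by rw [h0, herm_zero_left]
    rw [hu, herm_add_left, herm_smul_left, hor', mul_zero, add_zero] at h1
    exact hvv h1
  obtain ⟨κ, hκ0, hκ⟩ := exists_trace_zero_ne hF
  have hs := isSiegel_zero (n := 5) huu hκ
  -- the subgroup
  let K0 : Subgroup (SU 5 F q) :=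
    { carrier := {k | ∀ w, hermForm 5 F q w v = 0 → hermForm 5 F q w v1 = 0 → act k w = w}
      one_mem' := fun w _ _ => act_one w
      mul_mem' := fun {a b} ha hb w h1 h2 => by rw [act_mul, hb w h1 h2, ha w h1 h2]
      inv_mem' := fun {a} ha w h1 h2 => by
        conv_lhs => rw [← ha w h1 h2]
        rw [act_inv_act] }
  have hn : ∀ k ∈ K0, h * k * h⁻¹ ∈ K0 := by
    intro k hk w h1 h2
    rw [act_mul, act_mul]
    have e1 : hermForm 5 F q (act h⁻¹ w) v = 0 := by
      rw [herm_act_left, inv_inv, hA, herm_smul_right, h1, mul_zero]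
    have e2 : hermForm 5 F q (act h⁻¹ w) v1 = 0 := by
      rw [herm_act_left, inv_inv, hA1, herm_smul_right, h2, mul_zero]
    rw [hk _ e1 e2, act_act_inv]
  rcases hP.lift_alt hxP hx f K0 hh hn with ⟨k, hk, hkx⟩ | hcom
  · have h4 := (hP.rank_ge h11 hf (suRep 5 F q) hker hc hxP hx hkx 1).2
    rw [one_smul] at h4
    let L : (Fin 5 → F) →ₗ[F] F × F :=
      { toFun := fun w => (hermForm 5 F q w v, hermForm 5 F q w v1)
        map_add' := fun a b => Prod.ext (herm_add_left a b v) (herm_add_left a b v1)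
        map_smul' := fun a b => Prod.ext (herm_smul_left a b v) (herm_smul_left a b v1) }
    have hle : LinearMap.ker L ≤ LinearMap.ker (suRep 5 F q k - 1).mulVecLin := by
      intro w hw
      rw [LinearMap.mem_ker] at hw ⊢
      rw [Matrix.mulVecLin_apply, Matrix.sub_mulVec, Matrix.one_mulVec, suRep_mulVec,
        hk w (congrArg Prod.fst hw) (congrArg Prod.snd hw), sub_self]
    have h5 := LinearMap.finrank_range_add_finrank_ker L
    have h6 := LinearMap.finrank_range_add_finrank_ker (suRep 5 F q k - 1).mulVecLin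
    have h7 := Submodule.finrank_mono hle
    have h8 : finrank F (LinearMap.range L) ≤ 2 := by
      refine (Submodule.finrank_le _).trans ?_
      rw [finrank_prod, finrank_self]
    rw [finrank_fintype_fun_eq_card, Fintype.card_fin] at h5 h6
    have h9 : (suRep 5 F q k - 1).rank = finrank F (LinearMap.range (suRep 5 F q k - 1).mulVecLin) := rfl
    omega
  · have h1 : siegel hF u 0 κ hs ∈ K0 := by
      intro w h1 h2
      refine act_siegel_of_orth hF hs ?_ (herm_zero_right hF w)
      rw [hu, herm_add_right hF, herm_smul_right, h1, h2, mul_zero, add_zero]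
    have h2 := comm_rank_one (by simp) (f := f) (suRep 5 F q) hker (h := h) (k := siegel hF u 0 κ hs)
      (by rw [hh]; exact hcom _ h1) (suRep_siegel hF hs)
    obtain ⟨j, hj⟩ := Function.ne_iff.1 hu0
    have hj' : κ * u j ^ q ≠ 0 := mul_ne_zero hκ0 (pow_ne_zero _ hj)
    obtain ⟨s, hs'⟩ : ∃ s : F, act h u = s • u := by
      refine ⟨(Matrix.vecMul (fun j => κ * u j ^ q) (suRep 5 F q h)) j / (κ * u j ^ q), ?_⟩
      funext i
      have h3 := congrFun (congrFun h2 i) j
      rw [Matrix.vecMulVec_apply, Matrix.vecMulVec_apply, suRep_mulVec] at h3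
      rw [Pi.smul_apply, smul_eq_mul, div_mul_eq_mul_div, eq_div_iff hj', h3, mul_comm]
    rw [hu, act_add, act_smul, hA, hA1] at hs'
    have e1 : c = s := by
      have h3 := congrArg (fun w => hermForm 5 F q w v) hs'
      simp only [herm_add_left, herm_smul_left, hor', mul_zero, add_zero] at h3
      exact mul_right_cancel₀ hvv h3
    have e2 : d = s := by
      have h3 := congrArg (fun w => hermForm 5 F q w v1) hs'
      simp only [herm_add_left, herm_smul_left, hor, mul_zero, zero_add] at h3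
      have h4 : (l * hermForm 5 F q v1 v1) * d = (l * hermForm 5 F q v1 v1) * s := by linear_combination h3
      exact mul_left_cancel₀ (mul_ne_zero hl0 hvv1) h4
    exact hdc (e2.trans e1.symm)

/-- **`PSU(n, q)`, characteristic `≠ 11`** -/
theorem row_psu (h11 : (11 : F) ≠ 0) (hF : Fintype.card F = q ^ 2) {n : ℕ} (hn3 : 3 ≤ n)
    [IsSimpleGroup (PSU n F q)] : Row (PSU n F q) := by
  rcases lt_trichotomy n 5 with h | rfl | h
  · exact row_psu_small h11 hF hn3 (by omega)
  · exact row_psu_five h11 hF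
  · exact row_psu_six h11 hF (by omega)

end Cfsg.Agent.H43.Eleven
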