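import Cfsg.Agent.H43.Eleven.Red
import Cfsg.Agent.H43.Eleven.ClassB
import Cfsg.Agent.H43.Eleven.ClassU
import Cfsg.Agent.H43.Eleven.Alt
import Cfsg.Agent.H43.Eleven.FFour
import Cfsg.Agent.H807.El.Mathieu
import Cfsg.Agent.H807.El.Conway
import Cfsg.Agent.H807.El.Suz
import Cfsg.Agent.H820.ElSeven
import Cfsg.Agent.H820.ElM
import Cfsg.Agent.H633.ElJ4
import Cfsg.Agent.H216.ElDef
import Cfsg.Agent.H892.ElRow
import Cfsg.Agent.NotCT.Orders
import Cfsg.Agent.OddRank.SzTits
import Cfsg.Agent.PreUniq.Cases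
import Cfsg.Agent.H363.PslCard
import Cfsg.Agent.S0000

/-!
# S3403: all rows, and the theorem
-/

set_option autoImplicit false
set_option linter.style.haveILetI false

namespace Cfsg.Agent.H43.Eleven

open Subgroup Cfsg

universe u v w

theorem simple_of_equiv {X : Type u} [Group X] [IsSimpleGroup X] {Y : Type v} [Group Y] (e : X ≃* Y) :
    IsSimpleGroup Y := by
  haveI : Nontrivial Y := e.symm.toEquiv.nontrivial
  exact IsSimpleGroup.isSimpleGroup_of_surjective e.toMonoidHom e.surjective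

section

variable {X : Type u} [Group X] [Finite X] [IsSimpleGroup X]

theorem row_lie {p : ℕ} (hp : p.Prime) (hp11 : p ≠ 11) (h : IsLieTypeChar p X) : Row X := by
  have hF11 : ∀ (F : Type) [Field F] [CharP F p], (11 : F) ≠ 0 := by
    intro F _ _ h0
    have h1 := (CharP.cast_eq_zero_iff F p 11).1 (by exact_mod_cast h0)
    rcases (Nat.dvd_prime (by norm_num)).1 h1 with h2 | h2
    · exact hp.one_lt.ne' h2
    · exact hp11 h2
  have : Fact p.Prime := ⟨hp⟩
  rcases h with h | h | h | h | h | h | h | h | ⟨-, h⟩ | ⟨-, h⟩ | ⟨-, h⟩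
  · obtain ⟨F, _, _, _, n, -, -, ⟨e⟩⟩ := h
    haveI := simple_of_equiv e
    exact row_congr e (row_psl (hF11 F))
  · obtain ⟨F, _, _, _, m, hm, -, ⟨e⟩⟩ := h
    haveI := simple_of_equiv e
    exact row_congr e (row_psp (hF11 F) (by omega))
  · obtain ⟨F, _, _, _, n, q, hF, hn, -, ⟨e⟩⟩ := h
    haveI := simple_of_equiv e
    exact row_congr e (row_psu (hF11 F) hF hn)
  · obtain ⟨F, _, _, _, m, hm, hodd, ⟨e⟩⟩ := h
    haveI := simple_of_equiv e
    exact row_congr e (row_pomegaOdd (hF11 F) hm hodd)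
  · obtain ⟨F, _, _, _, m, hm, ⟨e⟩⟩ := h
    haveI := simple_of_equiv e
    exact row_congr e (row_pomegaPlus (hF11 F) hm)
  · obtain ⟨F, _, _, _, m, a, b, hm, hab, ⟨e⟩⟩ := h
    haveI := simple_of_equiv e
    exact row_congr e (row_pomegaMinus (hF11 F) (by omega) a b hab)
  · exact H892.El.row_chev hp11 h
  · exact H892.El.row_tw hp11 h
  · exact row_sz h
  · exact FFour.row_2F4 h
  · exact row_ree h

omit [IsSimpleGroup X] in
theorem row_spor (h : IsSporadicGroup X) : Row X := by
  have key : ∀ n : ℕ, Nat.card X = n → ¬ 11 ∣ n → Row X := fun n h1 h2 => row_of_coprime (by rw [h1]; exact h2)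
  rcases h with h | h | h | h | h | h | h | h | h | h | h | h | h | h | h | h | h | h | h | h | h | h | h | h | h | h
  · exact H807.El.row_M11 h
  · exact H807.El.row_M12 h
  · exact H807.El.row_M22 h
  · exact H807.El.row_M23 h
  · exact H807.El.row_M24 h
  · exact fun _ _ _ _ => Or.inr h
  · exact key _ (NotCT.Orders.j2 h) (by norm_num)
  · exact key _ (NotCT.Orders.j3 h) (by norm_num)
  · exact H633.ElJ4.row_J4 h
  · exact H807.El.row_Co1 h
  · exact H807.El.row_Co2 h
  · exact H807.El.row_Co3 h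
  · exact H807.El.row_McL h
  · exact H807.El.row_HS h
  · exact H807.El.row_Suz h
  · exact key _ (NotCT.Orders.he h) (by norm_num)
  · exact key _ (NotCT.Orders.ru h) (by norm_num)
  · exact H820.ElSeven.row_ON h
  · exact H820.ElSeven.row_Ly h
  · exact H820.ElSeven.row_Fi22 h
  · exact H820.ElSeven.row_Fi23 h
  · exact H820.ElSeven.row_Fi24' h
  · exact H820.ElSeven.row_HN h
  · exact key _ (NotCT.Orders.th h) (by norm_num)
  · exact H820.ElSeven.row_B h
  · exact H820.ElM.row_M h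

/-- **All rows.** -/
theorem row_all : Row X := by
  rcases PreUniq.known_cases (G := X) S0000.result with h | ⟨n, hn, ⟨e⟩⟩ | ⟨r, hr, h⟩ | h | h
  · rintro ⟨a, b, hab⟩
    have : Fact (Nat.card X).Prime := ⟨h⟩
    have hcyc : IsCyclic X := isCyclic_of_prime_card rfl
    exact absurd (hcyc.commGroup.mul_comm a b) hab
  · exact row_congr e (row_alt hn)
  · by_cases h11 : r = 11
    · subst h11
      exact H216.ElDef.row_char11 h
    · exact row_lie hr h11 h
  · exact row_of_coprime (by rw [OddRank.SzTits.tits_card h]; norm_num)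
  · exact row_spor h

end

/-- **Groups generated by a class of subgroups of order 11 with small pairs.** -/
theorem main {G : Type u} [Group G] [Finite G] {F : Type v} [Field F] [Fintype F] (hF : Fintype.card F = 11)
    (P : Subgroup G) (hP : Nat.card ↥P = 11) (hPn : ¬ P.Normal) (hgen : Subgroup.normalClosure (P : Set G) = ⊤)
    (hpair : ∀ g : G, P.map (MulAut.conj g).toMonoidHom ≠ P →
      Nonempty (↥(P ⊔ P.map (MulAut.conj g).toMonoidHom) ≃* Matrix.ProjectiveSpecialLinearGroup (Fin 2) F) ∨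
        Cfsg.Spor.IsoJ1 ↥(P ⊔ P.map (MulAut.conj g).toMonoidHom)) :
    Nonempty (G ≃* Matrix.ProjectiveSpecialLinearGroup (Fin 2) F) ∨ Cfsg.Spor.IsoJ1 G := by
  have : Fact (Nat.Prime 11) := ⟨by norm_num⟩
  obtain ⟨e⟩ := H363.PslCard.psl_of_card (n := Fin 2) (F := F) (F' := ZMod 11) (by rw [hF, ZMod.card])
  have hcfg : Cfg P := by
    refine ⟨hP, fun g hg => ?_⟩
    rcases hpair g hg with ⟨⟨f⟩⟩ | h
    · exact Or.inl ⟨f.trans e⟩
    · exact Or.inr h
  have hne : ∃ g, cj g P ≠ P := by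
    by_contra hcon
    push Not at hcon
    apply hPn
    rw [← normalizer_eq_top_iff]
    exact eq_top_iff.2 fun g _ => cj_eq_iff.1 (hcon g)
  rcases good_of_rows (fun X _ _ _ => row_all) _ G rfl P hcfg hne hgen with ⟨⟨f⟩⟩ | h
  · exact Or.inl ⟨f.trans e.symm⟩
  · exact Or.inr h

end Cfsg.Agent.H43.Eleven
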