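import Mathlib
import Cfsg.Prelude.Def_Spor_J1

/-!
# Groups generated by a class of subgroups of order 11 (S3403): interface

* `Good L` : `L ≃ PSL(2, 11)` or `L ≃ J₁`.
* `Cfg P` : `P ≤ G` has order 11 and any two distinct conjugates of `P` generate a `Good` group.
* `Loc P` : every proper subgroup `M ≥ P` normalises `P` or a `Good` subgroup containing `P` (induction hypothesis).
* `Row X` : the statement to be proved for the simple group `X`.
-/

set_option autoImplicit false

namespace Cfsg.Agent.H43.Eleven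

open Subgroup

universe u v

/-- `PSL(2, 11)` or `J₁`. -/
def Good (L : Type*) [Group L] : Prop :=
  Nonempty (L ≃* Matrix.ProjectiveSpecialLinearGroup (Fin 2) (ZMod 11)) ∨ Cfsg.Spor.IsoJ1 L

theorem Good.congr {L : Type u} {L' : Type v} [Group L] [Group L'] (e : L ≃* L') (h : Good L) : Good L' := by
  rcases h with ⟨⟨f⟩⟩ | ⟨⟨f⟩⟩
  · exact Or.inl ⟨e.symm.trans f⟩
  · exact Or.inr ⟨e.symm.trans f⟩

variable {G : Type u} [Group G]

/-- The conjugate `g P g⁻¹`. -/
abbrev cj (g : G) (P : Subgroup G) : Subgroup G := P.map (MulAut.conj g).toMonoidHom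

theorem mem_cj {g x : G} {P : Subgroup G} : x ∈ cj g P ↔ g⁻¹ * x * g ∈ P := by
  constructor
  · rintro ⟨y, hy, rfl⟩
    have : g⁻¹ * ((MulAut.conj g).toMonoidHom y) * g = y := by
      show g⁻¹ * (g * y * g⁻¹) * g = y
      group
    rw [this]; exact hy
  · intro h
    exact ⟨_, h, by show g * (g⁻¹ * x * g) * g⁻¹ = x; group⟩

theorem conj_mem_cj {g x : G} {P : Subgroup G} (h : x ∈ P) : g * x * g⁻¹ ∈ cj g P := ⟨x, h, rfl⟩

theorem cj_mul (g h : G) (P : Subgroup G) : cj (g * h) P = cj g (cj h P) := by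
  ext x
  rw [mem_cj, mem_cj, mem_cj]
  have : (g * h)⁻¹ * x * (g * h) = h⁻¹ * (g⁻¹ * x * g) * h := by group
  rw [this]

theorem cj_one (P : Subgroup G) : cj (1 : G) P = P := by
  ext x
  rw [mem_cj]
  simp

theorem cj_eq_iff {g : G} {P : Subgroup G} : cj g P = P ↔ g ∈ normalizer (P : Set G) :=
  mem_normalizer_iff_map_conj_eq.symm

theorem cj_le_iff {g : G} {P M : Subgroup G} : cj g P ≤ M ↔ P ≤ cj g⁻¹ M := by
  constructor
  · intro h x hx
    rw [mem_cj, inv_inv]
    exact h (conj_mem_cj hx)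
  · intro h x hx
    rw [mem_cj] at hx
    have := h hx
    rw [mem_cj, inv_inv] at this
    have h2 : g * (g⁻¹ * x * g) * g⁻¹ = x := by group
    rwa [h2] at this

theorem cj_mono {g : G} {P Q : Subgroup G} (h : P ≤ Q) : cj g P ≤ cj g Q := Subgroup.map_mono h

theorem cj_inv_cj (g : G) (P : Subgroup G) : cj g⁻¹ (cj g P) = P := by
  rw [← cj_mul, inv_mul_cancel, cj_one]

theorem cj_cj_inv (g : G) (P : Subgroup G) : cj g (cj g⁻¹ P) = P := by
  rw [← cj_mul, mul_inv_cancel, cj_one]

/-- conjugation as an isomorphism -/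
noncomputable def cjEquiv (g : G) (P : Subgroup G) : P ≃* cj g P :=
  P.equivMapOfInjective _ (MulAut.conj g).injective

theorem card_cj (g : G) (P : Subgroup G) : Nat.card ↥(cj g P) = Nat.card ↥P :=
  (Nat.card_congr (cjEquiv g P).toEquiv).symm

theorem cj_sup (g : G) (P Q : Subgroup G) : cj g (P ⊔ Q) = cj g P ⊔ cj g Q := Subgroup.map_sup _ _ _

theorem cj_le_self {g : G} {P M : Subgroup G} (h : P ≤ M) (hg : g ∈ M) : cj g P ≤ M := by
  intro x hx
  rw [mem_cj] at hx
  have := M.mul_mem (M.mul_mem hg (h hx)) (M.inv_mem hg)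
  have h2 : g * (g⁻¹ * x * g) * g⁻¹ = x := by group
  rwa [h2] at this

/-- The pair property. -/
structure Cfg (P : Subgroup G) : Prop where
  card : Nat.card ↥P = 11
  pair : ∀ g : G, cj g P ≠ P → Good ↥(P ⊔ cj g P)

/-- Every proper subgroup `M ≥ P` normalises `P` or a `Good` subgroup containing `P`. -/
def Loc (P : Subgroup G) : Prop :=
  ∀ M : Subgroup G, M ≠ ⊤ → P ≤ M → M ≤ normalizer (P : Set G) ∨
    ∃ L : Subgroup G, L ≤ M ∧ P ≤ L ∧ Good ↥L ∧ M ≤ normalizer (L : Set G)

/-- The statement needed for the simple group `X`. -/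
def Row (X : Type u) [Group X] : Prop := (∃ a b : X, a * b ≠ b * a) → ∀ P : Subgroup X, Cfg P → Loc P → Good X

end Cfsg.Agent.H43.Eleven
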