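import Cfsg.Agent.H43.Eleven.Rank
import Cfsg.Agent.ClassicalGeometry.SympInvolutions
import Cfsg.Agent.LieClassical.OrthCenter
import Cfsg.Prelude.Def_Classical

/-!
# S3403: the rows `PSL(n, q)` (`n ≥ 6`), `PSp(2m, q)`, `PΩ(Q)` in characteristic `≠ 11`
-/

set_option autoImplicit false

namespace Cfsg.Agent.H43.Eleven

open Subgroup Module Matrix Cfsg

universe u v

/-! ### `PSL` -/

theorem row_psl_six {F : Type} [Field F] [Fintype F] (h11 : (11 : F) ≠ 0) {n : ℕ} (hn : 6 ≤ n)
    [IsSimpleGroup (ProjectiveSpecialLinearGroup (Fin n) F)] : Row (ProjectiveSpecialLinearGroup (Fin n) F) := by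
  let f : Matrix.SpecialLinearGroup (Fin n) F →* ProjectiveSpecialLinearGroup (Fin n) F := QuotientGroup.mk' _
  have hf : Function.Surjective f := QuotientGroup.mk'_surjective _
  let ψ : Matrix.SpecialLinearGroup (Fin n) F →* Matrix (Fin n) (Fin n) F :=
    { toFun := fun A => A.1, map_one' := rfl, map_mul' := fun _ _ => rfl }
  have hker : ∀ h, f h = 1 ↔ ∃ c : F, ψ h = c • 1 := by
    intro h
    have h1 : f h = 1 ↔ h ∈ center (Matrix.SpecialLinearGroup (Fin n) F) := QuotientGroup.eq_one_iff h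
    rw [h1, Matrix.SpecialLinearGroup.mem_center_iff]
    constructor
    · rintro ⟨r, -, hr⟩
      exact ⟨r, by rw [Matrix.smul_one_eq_diagonal]; exact hr.symm⟩
    · rintro ⟨c, hc⟩
      have hc' : h.1 = c • 1 := hc
      refine ⟨c, ?_, ?_⟩
      · have := h.2
        rw [hc', Matrix.det_smul, Matrix.det_one, mul_one] at this
        exact this
      · rw [hc', Matrix.smul_one_eq_diagonal]; rfl
  have i0 : Fin n := ⟨0, by omega⟩
  let i : Fin n := ⟨0, by omega⟩
  let j : Fin n := ⟨1, by omega⟩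
  have hij : i ≠ j := by
    intro h
    have := congrArg Fin.val h
    simp [i, j] at this
  let h0 : Matrix.SpecialLinearGroup (Fin n) F := Matrix.SpecialLinearGroup.transvection hij 1
  have h0ab : ψ h0 = 1 + Matrix.vecMulVec (Pi.single i 1) (Pi.single j 1) := by
    show Matrix.transvection i j (1 : F) = _
    rw [Matrix.transvection, Matrix.single_eq_single_vecMulVec_single]
  refine row_five h11 hf ψ hker (by rw [Fintype.card_fin]; exact hn) (h0 := h0) ?_ h0ab
  rw [Ne, hker]
  rintro ⟨c, hc⟩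
  have h1 := congrFun (congrFun hc i) j
  rw [h0ab] at h1
  simp [Matrix.vecMulVec_apply, hij] at h1

/-! ### `PSp` -/

theorem row_psp {F : Type} [Field F] [Fintype F] (h11 : (11 : F) ≠ 0) {m : ℕ} (hm : 1 ≤ m)
    [IsSimpleGroup (PSp m F)] : Row (PSp m F) := by
  let f : symplecticGroup (Fin m) F →* PSp m F := QuotientGroup.mk' _
  have hf : Function.Surjective f := QuotientGroup.mk'_surjective _
  let ψ : symplecticGroup (Fin m) F →* Matrix (Fin m ⊕ Fin m) (Fin m ⊕ Fin m) F :=
    { toFun := fun A => A.1, map_one' := rfl, map_mul' := fun _ _ => rfl }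
  have hker : ∀ h, f h = 1 ↔ ∃ c : F, ψ h = c • 1 := by
    intro h
    have h1 : f h = 1 ↔ h ∈ center (symplecticGroup (Fin m) F) := QuotientGroup.eq_one_iff h
    rw [h1]
    constructor
    · intro h2
      rcases ClassicalGeometry.SympInvolutions.center_eq h2 with h3 | h3
      · exact ⟨1, by rw [one_smul]; exact h3⟩
      · exact ⟨-1, by rw [neg_smul, one_smul]; exact h3⟩
    · rintro ⟨c, hc⟩
      rw [mem_center_iff]
      intro g
      apply Subtype.ext
      show g.1 * h.1 = h.1 * g.1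
      have hc' : h.1 = c • 1 := hc
      rw [hc', Matrix.mul_smul, mul_one, Matrix.smul_mul, one_mul]
  have hJu : IsUnit (Matrix.J (Fin m) F) := by
    rw [Matrix.isUnit_iff_isUnit_det]
    exact Matrix.isUnit_det_J (Fin m) F
  have hJψ : ∀ h, (ψ h).transpose * Matrix.J (Fin m) F * ψ h = Matrix.J (Fin m) F := fun h =>
    _root_.SymplecticGroup.mem_iff'.1 h.2
  let i : Fin m := ⟨0, by omega⟩
  let h0 : symplecticGroup (Fin m) F := ⟨Matrix.fromBlocks 1 (Matrix.single i i 1) 0 1, by
    rw [_root_.SymplecticGroup.mem_iff, Matrix.J, Matrix.fromBlocks_transpose, Matrix.fromBlocks_multiply,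
      Matrix.fromBlocks_multiply]
    simp⟩
  have h0ab : ψ h0 = 1 + Matrix.vecMulVec (Pi.single (Sum.inl i) 1) (Pi.single (Sum.inr i) 1) +
      Matrix.vecMulVec 0 0 := by
    show Matrix.fromBlocks 1 (Matrix.single i i 1) 0 1 = _
    rw [← Matrix.single_eq_single_vecMulVec_single, Matrix.zero_vecMulVec, add_zero, ← Matrix.fromBlocks_one]
    ext a b
    rcases a with a | a <;> rcases b with b | b <;>
      simp [Matrix.single_apply, Matrix.one_apply]
  refine row_nine h11 hf ψ hker hJu hJψ (h0 := h0) ?_ h0ab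
  rw [Ne, hker]
  rintro ⟨c, hc⟩
  have h1 := congrFun (congrFun hc (Sum.inl i)) (Sum.inr i)
  rw [h0ab] at h1
  simp [Matrix.vecMulVec_apply] at h1

/-! ### `PΩ` -/

open QuadraticMap LieClassical.OrthCenter in
theorem row_omega {F : Type} [Field F] [Fintype F] (h11 : (11 : F) ≠ 0) {ι : Type} [Fintype ι] [DecidableEq ι]
    (Q : QuadraticForm F (ι → F)) (hQ : (polarBilin Q).Nondegenerate) (hn : 3 ≤ Fintype.card ι)
    (hs : ∃ u : ι → F, u ≠ 0 ∧ Q u = 0) [IsSimpleGroup (POmega F ⇑Q)] : Row (POmega F ⇑Q) := by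
  let f : Omega F ⇑Q →* POmega F ⇑Q := QuotientGroup.mk' _
  have hf : Function.Surjective f := QuotientGroup.mk'_surjective _
  let ψ : Omega F ⇑Q →* Matrix ι ι F :=
    { toFun := fun A => ((A : isometryGroup F ⇑Q) : GeneralLinearGroup ι F).1, map_one' := rfl, map_mul' := fun _ _ => rfl }
  have hψ : ∀ (h : Omega F ⇑Q) (x : ι → F), (ψ h) *ᵥ x = act Q h.1 x := fun h x => rfl
  have hne : Nonempty ι := Fintype.card_pos_iff.1 (by omega)
  have hker : ∀ h, f h = 1 ↔ ∃ c : F, ψ h = c • 1 := by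
    intro h
    have h1 : f h = 1 ↔ h ∈ center (Omega F ⇑Q) := QuotientGroup.eq_one_iff h
    rw [h1]
    constructor
    · intro h2
      rcases (mem_center_omega_iff hQ hn hs h).1 h2 with h3 | h3
      · exact ⟨1, by rw [one_smul]; exact h3⟩
      · exact ⟨-1, by rw [neg_smul, one_smul]; exact h3⟩
    · rintro ⟨c, hc⟩
      rw [mem_center_iff]
      intro g
      apply Subtype.ext
      apply Subtype.ext
      apply Units.ext
      show ψ g * ψ h = ψ h * ψ g
      rw [hc, Matrix.mul_smul, mul_one, Matrix.smul_mul, one_mul]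
  -- the matrix of the polar form
  let J : Matrix ι ι F := LinearMap.BilinForm.toMatrix' (polarBilin Q)
  have hJ : ∀ x y : ι → F, x ⬝ᵥ (J *ᵥ y) = polar Q x y := by
    intro x y
    rw [← Matrix.toBilin'_apply', Matrix.toBilin'_toMatrix']
    rfl
  have hJu : IsUnit J := by
    rw [Matrix.isUnit_iff_isUnit_det, isUnit_iff_ne_zero, ← Matrix.nondegenerate_iff_det_ne_zero]
    exact LinearMap.BilinForm.Nondegenerate.toMatrix' hQ
  have hJψ : ∀ h, (ψ h).transpose * J * ψ h = J := by
    intro h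
    apply Matrix.toBilin'.injective
    ext x y
    have h1 : ∀ x y : ι → F, x ⬝ᵥ ((ψ h).transpose * J * ψ h) *ᵥ y = x ⬝ᵥ (J *ᵥ y) := by
      intro x y
      rw [← Matrix.mulVec_mulVec, ← Matrix.mulVec_mulVec, Matrix.dotProduct_mulVec, Matrix.vecMul_transpose, hψ, hψ, hJ,
        polar_act, hJ]
    simp only [LinearMap.coe_comp, Function.comp_apply, LinearMap.coe_single]
    rw [Matrix.toBilin'_apply', Matrix.toBilin'_apply', h1]
  obtain ⟨u, hu0, hu⟩ := hs
  obtain ⟨v, hv, huv⟩ := exists_partner hQ hu hu0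
  obtain ⟨a, hua, -, ha⟩ := exists_nonsing_perp hQ hn hu hv huv
  have hua' : polar Q u ((1 : F) • a) = 0 := by rw [one_smul]; exact hua
  let h0 : Omega F ⇑Q := ⟨siegelIso Q u ((1 : F) • a) hu hua', siegelIso_smul_mem_omega hQ hu hu0 ha hua 1 hua'⟩
  have h0act : ∀ x, (ψ h0) *ᵥ x = x + polar Q u x • a - polar Q a x • u - (Q a * polar Q u x) • u := by
    intro x
    rw [hψ]
    show act Q (siegelIso Q u ((1 : F) • a) hu hua') x = _
    rw [act_siegelIso, one_smul]
  have h0ab : ψ h0 = 1 + Matrix.vecMulVec a (u ᵥ* J) + Matrix.vecMulVec u (-(a ᵥ* J) - Q a • (u ᵥ* J)) := by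
    apply Matrix.mulVec_injective
    funext x
    rw [h0act, Matrix.add_mulVec, Matrix.add_mulVec, Matrix.one_mulVec, Matrix.vecMulVec_mulVec,
      Matrix.vecMulVec_mulVec, sub_dotProduct, neg_dotProduct, smul_dotProduct, ← Matrix.dotProduct_mulVec,
      ← Matrix.dotProduct_mulVec, hJ, hJ]
    ext i
    simp
    ring
  refine row_nine h11 hf ψ hker hJu hJψ (h0 := h0) ?_ h0ab
  rw [Ne, hker]
  rintro ⟨c, hc⟩
  have h1 := h0act v
  have h2 := h0act u
  rw [hc, Matrix.smul_mulVec, one_mulVec] at h1 h2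
  have huu : polar Q u u = 0 := by rw [LieClassical.OrthCore.polar_self_of_sing hu]
  have hau : polar Q a u = 0 := by rw [polar_comm]; exact hua
  rw [huu, hau, zero_smul, zero_smul, mul_zero, zero_smul, add_zero, sub_zero, sub_zero] at h2
  have hc1 : c = 1 := by
    have h3 : (c - 1) • u = 0 := by rw [sub_smul, one_smul, h2, sub_self]
    rcases smul_eq_zero.1 h3 with h4 | h4
    · exact sub_eq_zero.1 h4
    · exact absurd h4 hu0
  rw [hc1, one_smul, huv, one_smul, mul_one] at h1
  have h3 : a = (polar Q a v + Q a) • u := by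
    rw [add_smul]
    have h4 : v + (a - (polar Q a v • u + Q a • u)) = v + 0 := by
      calc v + (a - (polar Q a v • u + Q a • u)) = v + a - polar Q a v • u - Q a • u := by abel
        _ = v + 0 := by rw [← h1, add_zero]
    exact sub_eq_zero.1 (add_left_cancel h4)
  apply ha
  rw [h3, QuadraticMap.map_smul, hu, smul_zero]

end Cfsg.Agent.H43.Eleven
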