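import Cfsg.Agent.H43.Eleven.Small
import Cfsg.Agent.H43.Eleven.ClassA

/-!
# S3403: the groups `PSL(n, q)`, `n ≤ 5`, in characteristic `≠ 11`
-/

set_option autoImplicit false
set_option linter.style.haveILetI false

namespace Cfsg.Agent.H43.Eleven

open Subgroup Module Matrix Cfsg

universe u v w

section generic

variable {F : Type v} [Field F] {ι : Type w} [Fintype ι] [DecidableEq ι] {H : Type*} [Group H] {X : Type u} [Group X]
  [Finite X] [IsSimpleGroup X]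

/-- dimension 5, transvections: some generator of `P` has an eigenvector over `F` -/
theorem Cfg.exists_eigvec {f : H →* X} (hf : Function.Surjective f) (ψ : H →* Matrix ι ι F)
    (h5 : Fintype.card ι = 5) (hc : ∃ a b : X, a * b ≠ b * a) {P : Subgroup X} (hP : Cfg P) {h0 : H} (h01 : f h0 ≠ 1)
    {a b : ι → F} (h0ab : ψ h0 = 1 + Matrix.vecMulVec a b) :
    ∃ (x : X) (h : H) (c : F) (v : ι → F), x ∈ P ∧ orderOf x = 11 ∧ f h = x ∧ v ≠ 0 ∧ ψ h *ᵥ v = c • v := by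
  obtain ⟨x, hxP, hx, hρ⟩ := hP.trick_simple hc (rho f ψ) (rho_mul f ψ hf) (rho_conj f ψ hf) (rho_inv f ψ hf)
    (rho_pow f ψ hf) h01
  have h1 : rho f ψ (f h0) ≤ 1 := by
    refine (rho_le f ψ rfl 1).trans ?_
    rw [h0ab, one_smul, add_sub_cancel_left]
    exact Matrix.rank_vecMulVec_le _ _
  obtain ⟨h, c, hh, hr⟩ := exists_rho f ψ hf x
  have hdet : (ψ h - c • (1 : Matrix ι ι F)).det = 0 := by
    by_contra hd
    have h2 : IsUnit (ψ h - c • (1 : Matrix ι ι F)) := by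
      rw [Matrix.isUnit_iff_isUnit_det]
      exact isUnit_iff_ne_zero.2 hd
    have h3 := Matrix.rank_of_isUnit _ h2
    omega
  obtain ⟨v, hv, hv'⟩ := Matrix.exists_mulVec_eq_zero_iff.2 hdet
  refine ⟨x, h, c, v, hxP, hx, hh, hv, ?_⟩
  rw [Matrix.sub_mulVec, Matrix.smul_mulVec, Matrix.one_mulVec, sub_eq_zero] at hv'
  exact hv'

omit [Finite X] [IsSimpleGroup X] in
theorem eigval_ne_zero (ψ : H →* Matrix ι ι F) {h : H} {v : ι → F} {c : F} (hv : v ≠ 0) (hA : ψ h *ᵥ v = c • v) :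
    c ≠ 0 := by
  rintro rfl
  apply hv
  have : ψ h⁻¹ *ᵥ (ψ h *ᵥ v) = v := by rw [Matrix.mulVec_mulVec, psi_inv', Matrix.one_mulVec]
  rw [← this, hA, zero_smul, Matrix.mulVec_zero]

/-- the elements `1 + v ⊗ φ`, `φ v = 0` -/
def cent (ψ : H →* Matrix ι ι F) (v : ι → F) : Subgroup H where
  carrier := {g | ∃ φ : ι → F, φ ⬝ᵥ v = 0 ∧ ψ g = 1 + Matrix.vecMulVec v φ}
  one_mem' := ⟨0, by simp, by simp⟩
  mul_mem' := by
    rintro g g' ⟨φ, h1, h2⟩ ⟨φ', h3, h4⟩
    refine ⟨φ + φ', by rw [add_dotProduct, h1, h3, add_zero], ?_⟩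
    rw [map_mul, h2, h4, add_mul, one_mul, mul_add, mul_one, Matrix.vecMulVec_mul_vecMulVec, h1, Matrix.vecMulVec_add]
    simp
    abel
  inv_mem' := by
    rintro g ⟨φ, h1, h2⟩
    refine ⟨-φ, by rw [neg_dotProduct, h1, neg_zero], ?_⟩
    have h3 : (1 + Matrix.vecMulVec v (-φ)) * ψ g = 1 := by
      rw [h2, add_mul, one_mul, mul_add, mul_one, Matrix.vecMulVec_mul_vecMulVec, neg_dotProduct, h1, Matrix.vecMulVec_neg]
      simp
    calc ψ g⁻¹ = ((1 + Matrix.vecMulVec v (-φ)) * ψ g) * ψ g⁻¹ := by rw [h3, one_mul]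
      _ = 1 + Matrix.vecMulVec v (-φ) := by rw [mul_assoc, psi_inv, mul_one]

theorem mem_cent {ψ : H →* Matrix ι ι F} {v : ι → F} {g : H} :
    g ∈ cent ψ v ↔ ∃ φ : ι → F, φ ⬝ᵥ v = 0 ∧ ψ g = 1 + Matrix.vecMulVec v φ := Iff.rfl

theorem cent_conj {ψ : H →* Matrix ι ι F} {v : ι → F} {h : H} {c : F} (hA : ψ h *ᵥ v = c • v) {k : H}
    (hk : k ∈ cent ψ v) : h * k * h⁻¹ ∈ cent ψ v := by
  by_cases hv : v = 0
  · subst hv
    obtain ⟨φ, -, h2⟩ := hk
    refine ⟨0, by simp, ?_⟩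
    rw [Matrix.zero_vecMulVec, add_zero] at h2 ⊢
    rw [map_mul, map_mul, h2, mul_one, psi_inv]
  have hc := eigval_ne_zero ψ hv hA
  obtain ⟨φ, h1, h2⟩ := hk
  have hA' : ψ h⁻¹ *ᵥ v = c⁻¹ • v := by
    have h3 : ψ h⁻¹ *ᵥ (ψ h *ᵥ v) = v := by rw [Matrix.mulVec_mulVec, psi_inv', Matrix.one_mulVec]
    rw [hA, Matrix.mulVec_smul] at h3
    rw [← h3, smul_smul, inv_mul_cancel₀ hc, one_smul, h3]
  refine ⟨c • (φ ᵥ* ψ h⁻¹), ?_, ?_⟩
  · rw [smul_dotProduct, ← Matrix.dotProduct_mulVec, hA', dotProduct_smul, h1, smul_zero, smul_zero]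
  · rw [map_mul, map_mul, h2, mul_add, mul_one, add_mul, psi_inv, Matrix.mul_vecMulVec, Matrix.vecMulVec_mul, hA,
      Matrix.smul_vecMulVec, Matrix.vecMulVec_smul]

/-- **the elements `1 + v ⊗ φ` commute with the lift** if `v` is an eigenvector -/
theorem Cfg.eig_comm (h11 : (11 : F) ≠ 0) {f : H →* X} (hf : Function.Surjective f) (ψ : H →* Matrix ι ι F)
    (hker : ∀ h, f h = 1 ↔ ∃ c : F, ψ h = c • 1) (hc : ∃ a b : X, a * b ≠ b * a) {P : Subgroup X} (hP : Cfg P) {x : X}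
    (hxP : x ∈ P) (hx : orderOf x = 11) {h : H} (hh : f h = x) {v : ι → F} (hv : v ≠ 0) {c : F}
    (hA : ψ h *ᵥ v = c • v) {k : H} {φ : ι → F} (hφ : φ ⬝ᵥ v = 0) (hk : ψ k = 1 + Matrix.vecMulVec v φ) :
    φ ᵥ* ψ h = c • φ := by
  rcases hP.lift_alt hxP hx f (cent ψ v) hh (fun k hk => cent_conj hA hk) with ⟨g, ⟨φ', -, hg⟩, hgx⟩ | hcom
  · exfalso
    have h4 := (hP.rank_ge h11 hf ψ hker hc hxP hx hgx 1).2
    rw [hg, one_smul, add_sub_cancel_left] at h4
    have := Matrix.rank_vecMulVec_le v φ'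
    omega
  · have h3 : 3 ≤ Fintype.card ι := by
      have := (hP.rank_ge h11 hf ψ hker hc hxP hx hh 1).1
      omega
    have h4 := comm_rank_one h3 (f := f) ψ hker (h := h) (k := k) (by rw [hh]; exact hcom k ⟨φ, hφ, hk⟩) hk
    rw [hA] at h4
    obtain ⟨i, hi⟩ := Function.ne_iff.1 hv
    funext j
    have h5 := congrFun (congrFun h4 i) j
    rw [Matrix.vecMulVec_apply, Matrix.vecMulVec_apply, Pi.smul_apply, smul_eq_mul] at h5
    have h6 : v i * ((φ ᵥ* ψ h) j - c * φ j) = 0 := by linear_combination -h5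
    rcases mul_eq_zero.1 h6 with h7 | h7
    · exact absurd h7 hi
    · rw [Pi.smul_apply, smul_eq_mul]
      exact sub_eq_zero.1 h7

end generic

/-! ### `PSL` -/

/-- the matrices of `SL` -/
def slRep (n : ℕ) (F : Type) [Field F] : Matrix.SpecialLinearGroup (Fin n) F →* Matrix (Fin n) (Fin n) F where
  toFun := fun A => A.1
  map_one' := rfl
  map_mul' := fun _ _ => rfl

theorem sl_ker {F : Type} [Field F] {n : ℕ} (h : Matrix.SpecialLinearGroup (Fin n) F) :
    (QuotientGroup.mk' _ h : ProjectiveSpecialLinearGroup (Fin n) F) = 1 ↔ ∃ c : F, slRep n F h = c • 1 := by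
  have h1 : (QuotientGroup.mk' _ h : ProjectiveSpecialLinearGroup (Fin n) F) = 1 ↔
    h ∈ center (Matrix.SpecialLinearGroup (Fin n) F) := QuotientGroup.eq_one_iff h
  rw [h1, Matrix.SpecialLinearGroup.mem_center_iff]
  constructor
  · rintro ⟨r, -, hr⟩
    exact ⟨r, by rw [Matrix.smul_one_eq_diagonal]; exact hr.symm⟩
  · rintro ⟨c, hc⟩
    have hc' : h.1 = c • 1 := hc
    refine ⟨c, ?_, ?_⟩
    · have := h.2
      rw [hc', Matrix.det_smul, Matrix.det_one, mul_one] at this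
      exact this
    · rw [hc', Matrix.smul_one_eq_diagonal]; rfl

theorem row_psl_small {F : Type} [Field F] [Fintype F] (h11 : (11 : F) ≠ 0) {n : ℕ} (hn : n ≤ 4)
    [IsSimpleGroup (ProjectiveSpecialLinearGroup (Fin n) F)] : Row (ProjectiveSpecialLinearGroup (Fin n) F) :=
  row_small h11 (QuotientGroup.mk'_surjective _) (slRep n F) sl_ker (by rw [Fintype.card_fin]; exact hn)

theorem row_psl_five {F : Type} [Field F] [Fintype F] (h11 : (11 : F) ≠ 0)
    [IsSimpleGroup (ProjectiveSpecialLinearGroup (Fin 5) F)] : Row (ProjectiveSpecialLinearGroup (Fin 5) F) := by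
  intro hc P hP _
  exfalso
  let f : Matrix.SpecialLinearGroup (Fin 5) F →* ProjectiveSpecialLinearGroup (Fin 5) F := QuotientGroup.mk' _
  have hf : Function.Surjective f := QuotientGroup.mk'_surjective _
  let ψ := slRep 5 F
  have hker : ∀ h, f h = 1 ↔ ∃ c : F, ψ h = c • 1 := sl_ker
  let h0 : Matrix.SpecialLinearGroup (Fin 5) F := Matrix.SpecialLinearGroup.transvection (show (0 : Fin 5) ≠ 1 by decide) 1
  have h0ab : ψ h0 = 1 + Matrix.vecMulVec (Pi.single 0 1) (Pi.single 1 1) := by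
    show Matrix.transvection 0 1 (1 : F) = _
    rw [Matrix.transvection, Matrix.single_eq_single_vecMulVec_single]
  have h01 : f h0 ≠ 1 := by
    rw [Ne, hker]
    rintro ⟨c, hc⟩
    have h1 := congrFun (congrFun hc 0) 1
    rw [h0ab] at h1
    simp [Matrix.vecMulVec_apply] at h1
  obtain ⟨x, h, c, v, hxP, hx, hh, hv, hA⟩ := hP.exists_eigvec hf ψ (by simp) hc h01 h0ab
  -- `φ (A - c) = 0` for all `φ` with `φ v = 0`
  have key : ∀ φ : Fin 5 → F, φ ⬝ᵥ v = 0 → φ ᵥ* ψ h = c • φ := by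
    intro φ hφ
    let k : Matrix.SpecialLinearGroup (Fin 5) F := ⟨1 + Matrix.vecMulVec v φ, by
      rw [Matrix.vecMulVec_eq Unit, Matrix.det_one_add_replicateCol_mul_replicateRow, hφ, add_zero]⟩
    exact hP.eig_comm h11 hf ψ hker hc hxP hx hh hv hA (k := k) hφ rfl
  obtain ⟨i, hi⟩ := Function.ne_iff.1 hv
  have hi' : v i ≠ 0 := hi
  have h4 := (hP.rank_ge h11 hf ψ hker hc hxP hx hh c).2
  have h5 : ψ h - c • (1 : Matrix (Fin 5) (Fin 5) F) =
      Matrix.vecMulVec ((v i)⁻¹ • v) ((ψ h - c • (1 : Matrix (Fin 5) (Fin 5) F)) i) := by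
    ext j l
    have h6 : (v i • Pi.single j 1 - v j • Pi.single i 1 : Fin 5 → F) ⬝ᵥ v = 0 := by
      rw [sub_dotProduct, smul_dotProduct, smul_dotProduct, single_one_dotProduct, single_one_dotProduct, smul_eq_mul,
        smul_eq_mul]
      ring
    have h7 := congrFun (key _ h6) l
    rw [Matrix.sub_vecMul, Matrix.smul_vecMul, Matrix.smul_vecMul, Matrix.single_one_vecMul, Matrix.single_one_vecMul] at h7
    simp only [Pi.sub_apply, Pi.smul_apply, smul_eq_mul, Matrix.row] at h7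
    rw [Matrix.vecMulVec_apply]
    simp only [Matrix.sub_apply, Matrix.smul_apply, smul_eq_mul, Pi.smul_apply]
    field_simp
    simp only [Pi.single_apply, Matrix.one_apply, eq_comm] at h7 ⊢
    linear_combination h7
  rw [h5] at h4
  have := Matrix.rank_vecMulVec_le ((v i)⁻¹ • v) ((ψ h - c • (1 : Matrix (Fin 5) (Fin 5) F)) i)
  omega

/-- **`PSL(n, q)`, characteristic `≠ 11`** -/
theorem row_psl {F : Type} [Field F] [Fintype F] (h11 : (11 : F) ≠ 0) {n : ℕ}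
    [IsSimpleGroup (ProjectiveSpecialLinearGroup (Fin n) F)] : Row (ProjectiveSpecialLinearGroup (Fin n) F) := by
  rcases lt_trichotomy n 5 with h | rfl | h
  · exact row_psl_small h11 (by omega)
  · exact row_psl_five h11
  · exact row_psl_six h11 (by omega)

end Cfsg.Agent.H43.Eleven
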