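import Cfsg.Agent.H43.Eleven.JFacts
import Cfsg.Agent.H43.Eleven.PslFacts

/-!
# Groups with a class of subgroups of order 11 generating `PSL(2, 11)` or `J₁` (S3403): the basic lemmas

Let `P ≤ G` satisfy `Cfg P` (order 11, any two distinct conjugates generate a `Good` group).

* `Cfg.nrm` : if `P` normalises `K`, then `P ≤ K` or `K` centralises `P`.
* `Cfg.solv` : if `P` normalises the solvable subgroup `K`, then `K` normalises `P`.
* `Cfg.trick` : for a "rank function" `ρ` and `u ∉ N(P)` there is `1 ≠ x ∈ P` with `ρ x ≤ 4 ρ u`.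
* `Cfg.relIndex_dvd` : if `P ≤ M ≠ G` and `Loc P`, then `|M : C_M(P)|` divides `15960 = 2³·3·5·7·19`.
-/

set_option autoImplicit false

namespace Cfsg.Agent.H43.Eleven

open Subgroup

universe u v

theorem Good.gf {L : Type u} [Group L] (h : Good L) : GF L := by
  rcases h with ⟨⟨e⟩⟩ | ⟨⟨e⟩⟩
  · exact (PF.wit.gf).congr e.symm
  · exact (JF.wit.gf).congr e.symm

variable {G : Type u} [Group G]

/-- elements of `P ⊔ K` when `P` normalises `K` -/
theorem exists_mul_of_le_normalizer {P K : Subgroup G} (h : P ≤ normalizer (K : Set G)) {a : G} (ha : a ∈ P ⊔ K) :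
    ∃ p ∈ P, ∃ k ∈ K, a = p * k := by
  let S : Subgroup G :=
    { carrier := {a | ∃ p ∈ P, ∃ k ∈ K, a = p * k}
      mul_mem' := by
        rintro _ _ ⟨p, hp, k, hk, rfl⟩ ⟨q, hq, l, hl, rfl⟩
        refine ⟨p * q, P.mul_mem hp hq, q⁻¹ * k * q * l, K.mul_mem ?_ hl, by group⟩
        have := (mem_normalizer_iff.1 (h (P.inv_mem hq)) k).1 hk
        rwa [inv_inv] at this
      one_mem' := ⟨1, P.one_mem, 1, K.one_mem, by simp⟩
      inv_mem' := by
        rintro _ ⟨p, hp, k, hk, rfl⟩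
        refine ⟨p⁻¹, P.inv_mem hp, p * k⁻¹ * p⁻¹, ?_, by group⟩
        exact (mem_normalizer_iff.1 (h hp) k⁻¹).1 (K.inv_mem hk) }
  have hS : P ⊔ K ≤ S := by
    refine sup_le (fun p hp => ⟨p, hp, 1, K.one_mem, by simp⟩) (fun k hk => ⟨1, P.one_mem, k, hk, by simp⟩)
  exact hS ha

/-- commutators of `P ⊔ K` lie in `K` -/
theorem comm_mem {P K : Subgroup G} (h : P ≤ normalizer (K : Set G)) (hc : ∀ a ∈ P, ∀ b ∈ P, a * b = b * a)
    {a b : G} (ha : a ∈ P ⊔ K) (hb : b ∈ P ⊔ K) : a * b * a⁻¹ * b⁻¹ ∈ K := by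
  obtain ⟨p, hp, k, hk, rfl⟩ := exists_mul_of_le_normalizer h ha
  obtain ⟨q, hq, l, hl, rfl⟩ := exists_mul_of_le_normalizer h hb
  have hcp : ∀ c ∈ P, ∀ m ∈ K, c * m * c⁻¹ ∈ K := fun c hc m hm => (mem_normalizer_iff.1 (h hc) m).1 hm
  have hpq : (p * q)⁻¹ * q = p⁻¹ := by rw [hc p hp q hq]; group
  have e : p * k * (q * l) * (p * k)⁻¹ * (q * l)⁻¹ =
      (p * k * p⁻¹) * ((p * q) * (l * k⁻¹) * (p * q)⁻¹) * (q * l⁻¹ * q⁻¹) := by
    calc p * k * (q * l) * (p * k)⁻¹ * (q * l)⁻¹ = (p * k * p⁻¹) * ((p * q) * (l * k⁻¹) * p⁻¹) * (l⁻¹ * q⁻¹) := by group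
      _ = (p * k * p⁻¹) * ((p * q) * (l * k⁻¹) * ((p * q)⁻¹ * q)) * (l⁻¹ * q⁻¹) := by rw [hpq]
      _ = _ := by group
  rw [e]
  refine K.mul_mem (K.mul_mem (hcp p hp k hk) (hcp _ (P.mul_mem hp hq) _ (K.mul_mem hl (K.inv_mem hk)))) ?_
  exact hcp q hq _ (K.inv_mem hl)

/-- two elements of a subgroup of order 11 commute -/
theorem comm_of_card {P : Subgroup G} (h : Nat.card ↥P = 11) : ∀ a ∈ P, ∀ b ∈ P, a * b = b * a := by
  have : Fact (Nat.Prime 11) := ⟨by norm_num⟩
  have hc : IsCyclic ↥P := isCyclic_of_prime_card h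
  intro a ha b hb
  have h1 : (⟨a, ha⟩ : ↥P) * ⟨b, hb⟩ = ⟨b, hb⟩ * ⟨a, ha⟩ := by
    let _ : CommGroup ↥P := hc.commGroup
    exact mul_comm _ _
  exact congrArg Subtype.val h1

/-- a generator -/
theorem exists_gen {P : Subgroup G} (h : Nat.card ↥P = 11) : ∃ x ∈ P, orderOf x = 11 ∧ P = zpowers x := by
  have : Fact (Nat.Prime 11) := ⟨by norm_num⟩
  have hf : Finite ↥P := Nat.finite_of_card_ne_zero (by rw [h]; norm_num)
  obtain ⟨⟨x, hxP⟩, hx⟩ := exists_prime_orderOf_dvd_card' (G := P) 11 (by rw [h])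
  have hx' : orderOf x = 11 := by rw [← hx, orderOf_mk]
  refine ⟨x, hxP, hx', ?_⟩
  refine (eq_of_le_of_card_ge (by rwa [zpowers_le]) ?_).symm
  rw [h, Nat.card_zpowers, hx']

theorem Good.not_comm {L : Type u} [Group L] (h : Good L) : ∃ a b : L, a * b * a⁻¹ * b⁻¹ ≠ 1 := by
  obtain ⟨a, b, hab⟩ := h.gf.ncomm
  refine ⟨a, b, fun hc => hab ?_⟩
  have := mul_inv_eq_one.1 hc
  exact mul_inv_eq_iff_eq_mul.1 this

variable {P : Subgroup G}

/-- a `Good` group `L ≤ PK` lies in `K` -/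
theorem good_le {K L : Subgroup G} (hP : Nat.card ↥P = 11) (h : P ≤ normalizer (K : Set G)) (hL : Good ↥L)
    (hLe : L ≤ P ⊔ K) : L ≤ K := by
  have hs := hL.gf.simple
  have hN : L ≤ normalizer (K : Set G) := hLe.trans (sup_le h le_normalizer)
  have hn : (K.subgroupOf L).Normal := by
    refine ⟨fun a ha g => ?_⟩
    rw [mem_subgroupOf] at ha ⊢
    exact (mem_normalizer_iff.1 (hN g.2) a.1).1 ha
  rcases hn.eq_bot_or_eq_top with h0 | h1
  · exfalso
    obtain ⟨a, b, hab⟩ := hL.not_comm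
    apply hab
    have hm : a * b * a⁻¹ * b⁻¹ ∈ K.subgroupOf L := by
      rw [mem_subgroupOf]
      exact comm_mem h (comm_of_card hP) (hLe a.2) (hLe b.2)
    rw [h0] at hm
    exact hm
  · exact subgroupOf_eq_top.1 h1

theorem le_cent_of_le_normalizer {K : Subgroup G} (h1 : P ≤ normalizer (K : Set G)) (h2 : K ≤ normalizer (P : Set G))
    (h3 : P ⊓ K = ⊥) : K ≤ centralizer (P : Set G) := by
  intro k hk
  rw [mem_centralizer_iff]
  intro p hp
  have h4 : p * k * p⁻¹ * k⁻¹ ∈ P ⊓ K := by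
    refine ⟨?_, ?_⟩
    · have : k * p⁻¹ * k⁻¹ ∈ P := (mem_normalizer_iff.1 (h2 hk) p⁻¹).1 (P.inv_mem hp)
      have e : p * k * p⁻¹ * k⁻¹ = p * (k * p⁻¹ * k⁻¹) := by group
      rw [e]; exact P.mul_mem hp this
    · exact K.mul_mem ((mem_normalizer_iff.1 (h1 hp) k).1 hk) (K.inv_mem hk)
  rw [h3, mem_bot] at h4
  have := mul_inv_eq_one.1 h4
  exact mul_inv_eq_iff_eq_mul.1 this

theorem inf_eq_bot_of_not_le {K : Subgroup G} (hP : Nat.card ↥P = 11) (h : ¬ P ≤ K) : P ⊓ K = ⊥ := by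
  have : Fact (Nat.Prime 11) := ⟨by norm_num⟩
  have hd : Nat.card ↥(P ⊓ K) ∣ 11 := hP ▸ card_dvd_of_le inf_le_left
  have hf : Finite ↥P := Nat.finite_of_card_ne_zero (by rw [hP]; norm_num)
  rcases (Nat.dvd_prime (by norm_num)).1 hd with h1 | h1
  · exact eq_bot_of_card_eq _ h1
  · exfalso
    apply h
    have : P ⊓ K = P := eq_of_le_of_card_ge inf_le_left (by rw [h1, hP])
    rw [← this]; exact inf_le_right

/-- **Lemma N** -/
theorem Cfg.nrm (h : Cfg P) {K : Subgroup G} (hK : P ≤ normalizer (K : Set G)) : P ≤ K ∨ K ≤ centralizer (P : Set G) := by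
  by_cases hPK : P ≤ K
  · exact Or.inl hPK
  refine Or.inr (le_cent_of_le_normalizer hK ?_ (inf_eq_bot_of_not_le h.card hPK))
  intro k hk
  by_contra hn
  rw [← cj_eq_iff] at hn
  apply hPK
  refine le_trans le_sup_left (good_le h.card hK (h.pair k hn) (sup_le le_sup_left ?_))
  exact cj_le_self le_sup_left (mem_sup_right hk)

/-- `P` and a conjugate normalising it -/
theorem Cfg.eq_of_le_normalizer (h : Cfg P) {g : G} (hg : cj g P ≤ normalizer (P : Set G)) : cj g P = P := by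
  by_contra hne
  have hG := h.pair g hne
  have h1 : P ⊔ cj g P ≤ P := by
    refine good_le (P := cj g P) (by rw [card_cj]; exact h.card) hg hG ?_
    rw [sup_comm]
  have h2 : cj g P ≤ P := le_sup_right.trans h1
  have hf : Finite ↥P := Nat.finite_of_card_ne_zero (by rw [h.card]; norm_num)
  exact hne (eq_of_le_of_card_ge h2 (by rw [card_cj]))

theorem Cfg.eq_of_comm (h : Cfg P) {g : G} (hg : cj g P ≤ centralizer (P : Set G)) : cj g P = P := by
  apply h.eq_of_le_normalizer (hg.trans ?_)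
  exact Subgroup.centralizer_le_normalizer _

/-- solvable subgroups normalised by `P` -/
theorem Cfg.solv (h : Cfg P) {K : Subgroup G} [hs : Group.IsSolvable ↥K] (hK : P ≤ normalizer (K : Set G)) :
    K ≤ normalizer (P : Set G) := by
  rcases h.nrm hK with h1 | h1
  · intro k hk
    by_contra hn
    rw [← cj_eq_iff] at hn
    have hG := (h.pair k hn).gf
    have hle : P ⊔ cj k P ≤ K := sup_le h1 (cj_le_self h1 hk)
    have hsol : Group.IsSolvable ↥(P ⊔ cj k P) := Group.isSolvable_of_isSolvable_injective (inclusion_injective hle)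
    have := hG.simple
    obtain ⟨a, b, hab⟩ := hG.ncomm
    exact hab (IsSimpleGroup.comm_iff_isSolvable.2 hsol a b)
  · exact h1.trans (Subgroup.centralizer_le_normalizer _)

/-- The configuration is conjugation invariant. -/
theorem Cfg.conj (h : Cfg P) (g : G) : Cfg (cj g P) where
  card := by rw [card_cj]; exact h.card
  pair := by
    intro k hk
    have h1 : cj (g⁻¹ * k * g) P ≠ P := by
      intro hc
      apply hk
      have h2 : cj g (cj (g⁻¹ * k * g) P) = cj g P := by rw [hc]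
      rw [← cj_mul] at h2
      rw [← cj_mul]
      have e : g * (g⁻¹ * k * g) = k * g := by group
      rwa [e] at h2
    have h2 := h.pair _ h1
    have e : cj g P ⊔ cj k (cj g P) = cj g (P ⊔ cj (g⁻¹ * k * g) P) := by
      rw [cj_sup, ← cj_mul, ← cj_mul]
      have e : g * (g⁻¹ * k * g) = k * g := by group
      rw [e]
    rw [e]
    exact h2.congr (cjEquiv g _)

theorem mem_normalizer_of_conj_gen [Finite G] {E : Subgroup G} {x : G} (h : ∀ e ∈ E, x * e * x⁻¹ ∈ E) :
    x ∈ normalizer (E : Set G) := by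
  rw [← cj_eq_iff]
  refine eq_of_le_of_card_ge ?_ (by rw [card_cj])
  rintro _ ⟨e, he, rfl⟩
  exact h e he

/-- The commuting argument. -/
theorem commute_shift [Finite G] {x y t : G} (ht : t = x * y) (hsq : ∀ i : ℕ, (x ^ i * y ^ i) ^ 2 = 1) (i : ℕ) :
    Commute (x ^ i * t * (x ^ i)⁻¹) t := by
  have hsq' : ∀ a b : G, a ^ 2 = 1 → b ^ 2 = 1 → (a * b) ^ 2 = 1 → Commute a b := by
    intro a b ha hb hab
    rw [pow_two] at ha hb hab
    have ha' : a⁻¹ = a := inv_eq_of_mul_eq_one_right ha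
    have hb' : b⁻¹ = b := inv_eq_of_mul_eq_one_right hb
    have hab' : (a * b)⁻¹ = a * b := inv_eq_of_mul_eq_one_right hab
    rw [mul_inv_rev, ha', hb'] at hab'
    exact hab'.symm
  have key : ∀ i : ℕ, Commute (x ^ i * t * (x ^ i)⁻¹) (x ^ i * y ^ i) := by
    intro i
    apply hsq'
    · have h1 := hsq 1
      rw [pow_one, pow_one, ← ht] at h1
      rw [conj_pow, h1]; group
    · exact hsq i
    · have : x ^ i * t * (x ^ i)⁻¹ * (x ^ i * y ^ i) = x ^ (i + 1) * y ^ (i + 1) := by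
        rw [ht, pow_succ x i, pow_succ' y i]; group
      rw [this]; exact hsq _
  cases i with
  | zero => simp
  | succ i =>
    have h1 : Commute (x ^ (i + 1) * t * (x ^ (i + 1))⁻¹) (x * (x ^ i * y ^ i) * x⁻¹) := by
      have h2 := (key i)
      have h3 : Commute (x * (x ^ i * t * (x ^ i)⁻¹) * x⁻¹) (x * (x ^ i * y ^ i) * x⁻¹) := by
        show _ = _
        have h4 := h2.eq
        calc x * (x ^ i * t * (x ^ i)⁻¹) * x⁻¹ * (x * (x ^ i * y ^ i) * x⁻¹)
            = x * ((x ^ i * t * (x ^ i)⁻¹) * (x ^ i * y ^ i)) * x⁻¹ := by group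
          _ = x * ((x ^ i * y ^ i) * (x ^ i * t * (x ^ i)⁻¹)) * x⁻¹ := by rw [h4]
          _ = _ := by group
      have e : x * (x ^ i * t * (x ^ i)⁻¹) * x⁻¹ = x ^ (i + 1) * t * (x ^ (i + 1))⁻¹ := by
        rw [pow_succ' x i]; group
      rwa [e] at h3
    have h2 := key (i + 1)
    have e : t = (x * (x ^ i * y ^ i) * x⁻¹)⁻¹ * (x ^ (i + 1) * y ^ (i + 1)) := by
      rw [ht, pow_succ' x i, pow_succ y i]; group
    have h3 := (h1.inv_right).mul_right h2
    rw [← e] at h3
    exact h3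

/-- **The basic dichotomy**: some commutator `[x ^ i, u]` has a non-trivial square. -/
theorem Cfg.exists_sq_ne [Finite G] (h : Cfg P) {x u : G} (hx : orderOf x = 11) (hPx : P = zpowers x)
    (hu : u ∉ normalizer (P : Set G)) : ∃ i : ℕ, (x ^ i * (u * x⁻¹ * u⁻¹) ^ i) ^ 2 ≠ 1 := by
  by_contra hc
  push Not at hc
  set y := u * x⁻¹ * u⁻¹ with hy
  set t := x * y with ht
  have hcomm := commute_shift ht hc
  have ht2 : t * t = 1 := by
    have := hc 1
    rwa [pow_one, pow_one, pow_two] at this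
  -- the conjugates of `t` commute
  have hall : ∀ i j : ℕ, i ≤ j → Commute (x ^ i * t * (x ^ i)⁻¹) (x ^ j * t * (x ^ j)⁻¹) := by
    intro i j hij
    obtain ⟨m, rfl⟩ := Nat.exists_eq_add_of_le hij
    have h1 := (hcomm m).symm.eq
    show _ = _
    calc x ^ i * t * (x ^ i)⁻¹ * (x ^ (i + m) * t * (x ^ (i + m))⁻¹)
        = x ^ i * (t * (x ^ m * t * (x ^ m)⁻¹)) * (x ^ i)⁻¹ := by rw [pow_add]; group
      _ = x ^ i * ((x ^ m * t * (x ^ m)⁻¹) * t) * (x ^ i)⁻¹ := by rw [h1]
      _ = _ := by rw [pow_add]; group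
  let S : Set G := Set.range fun i : ℕ => x ^ i * t * (x ^ i)⁻¹
  have hS : ∀ a ∈ S, ∀ b ∈ S, a * b = b * a := by
    rintro _ ⟨i, rfl⟩ _ ⟨j, rfl⟩
    rcases le_total i j with hij | hij
    · exact (hall i j hij).eq
    · exact (hall j i hij).symm.eq
  let E : Subgroup G := closure S
  have hEc : ∀ a ∈ E, ∀ b ∈ E, a * b = b * a := by
    have h1 : S ⊆ (centralizer (E : Set G) : Set G) := by
      intro s hs
      rw [SetLike.mem_coe, mem_centralizer_iff]
      intro e he
      have h2 : E ≤ centralizer ({s} : Set G) := by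
        refine (closure_le _).2 ?_
        intro r hr
        rw [SetLike.mem_coe, mem_centralizer_singleton_iff]
        exact hS r hr s hs
      exact mem_centralizer_singleton_iff.1 (h2 he)
    have h3 : E ≤ centralizer (E : Set G) := (closure_le _).2 h1
    intro a ha b hb
    exact (mem_centralizer_iff.1 (h3 hb) a ha)
  have htE : t ∈ E := subset_closure ⟨0, by simp⟩
  have hxE : x ∈ normalizer (E : Set G) := by
    apply mem_normalizer_of_conj_gen
    intro e he
    have h1 : E ≤ cj x⁻¹ E := by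
      refine (closure_le _).2 ?_
      rintro _ ⟨i, rfl⟩
      rw [SetLike.mem_coe, mem_cj, inv_inv]
      refine subset_closure ⟨i + 1, ?_⟩
      show x ^ (i + 1) * t * (x ^ (i + 1))⁻¹ = x * (x ^ i * t * (x ^ i)⁻¹) * x⁻¹
      rw [pow_succ' x i]; group
    have h2 := h1 he
    rw [mem_cj, inv_inv] at h2
    exact h2
  have hPE : P ≤ normalizer (E : Set G) := by rw [hPx, zpowers_le]; exact hxE
  have hxP : x ∈ P := by rw [hPx]; exact mem_zpowers x
  have hxt : x * t = t * x := by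
    rcases h.nrm hPE with h1 | h1
    · exact hEc x (h1 hxP) t htE
    · exact (mem_centralizer_iff.1 (h1 htE) x hxP)
  have hx11 : x ^ 11 = 1 := hx ▸ pow_orderOf_eq_one x
  have hy11 : y ^ 11 = 1 := by rw [hy, conj_pow, inv_pow, hx11]; group
  have hyt : y = x⁻¹ * t := by rw [ht]; group
  have ht11 : t ^ 11 = 1 := by
    have hcm : Commute x⁻¹ t := (show Commute x t from hxt).inv_left
    rw [hyt, hcm.mul_pow, inv_pow, hx11, inv_one, one_mul] at hy11
    exact hy11
  have ht1 : t = 1 := by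
    have e : t ^ 11 = (t * t) * (t * t) * (t * t) * (t * t) * (t * t) * t := by
      simp only [pow_succ, pow_zero, one_mul, mul_assoc]
    rw [e, ht2] at ht11
    simpa using ht11
  rw [ht1, mul_one] at hyt
  apply hu
  rw [hPx]
  have h1 : u * x * u⁻¹ = x := by
    have h2 : (u * x⁻¹ * u⁻¹)⁻¹ = (x⁻¹)⁻¹ := by rw [← hy, hyt]
    rw [inv_inv] at h2
    have e : (u * x⁻¹ * u⁻¹)⁻¹ = u * x * u⁻¹ := by group
    rwa [e] at h2
  rw [← cj_eq_iff]
  show map _ _ = _
  rw [MonoidHom.map_zpowers]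
  congr 1

/-- **The rank trick.** -/
theorem Cfg.trick [Finite G] (h : Cfg P) (ρ : G → ℕ) (hmul : ∀ a b, ρ (a * b) ≤ ρ a + ρ b)
    (hconj : ∀ a g, ρ (g * a * g⁻¹) ≤ ρ a) (hinv : ∀ a, ρ a⁻¹ ≤ ρ a) (hpow : ∀ a (i : ℕ), ρ (a ^ i) ≤ ρ a)
    {u : G} (hu : u ∉ normalizer (P : Set G)) : ∃ x ∈ P, orderOf x = 11 ∧ ρ x ≤ 4 * ρ u := by
  obtain ⟨x, hxP, hx, hPx⟩ := exists_gen h.card
  obtain ⟨i, hi⟩ := h.exists_sq_ne hx hPx hu
  set z := x ^ i * (u * x⁻¹ * u⁻¹) ^ i with hz
  have hzρ : ρ z ≤ 2 * ρ u := by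
    have e : z = (x ^ i * u * (x ^ i)⁻¹) * u⁻¹ := by rw [hz, conj_pow]; group
    rw [e]
    calc ρ _ ≤ ρ (x ^ i * u * (x ^ i)⁻¹) + ρ u⁻¹ := hmul _ _
      _ ≤ ρ u + ρ u := Nat.add_le_add (hconj _ _) (hinv _)
      _ = _ := by ring
  have hne : cj u P ≠ P := fun hc => hu (cj_eq_iff.1 hc)
  have hL := (h.pair u hne).gf
  have hxL : x ∈ P ⊔ cj u P := mem_sup_left hxP
  have hzL : z ∈ P ⊔ cj u P := by
    refine mul_mem (pow_mem hxL _) (pow_mem (mem_sup_right ?_) _)
    exact conj_mem_cj (P.inv_mem hxP)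
  obtain ⟨a, b, m, n, k, hk, hxk⟩ := hL.fp ⟨z, hzL⟩ ⟨x, hxL⟩ (by
    intro hc
    exact hi (congrArg Subtype.val hc)) (by rw [orderOf_mk, hx])
  have hxk' : x ^ k = (a * z ^ m * a⁻¹) * (b * z ^ n * b⁻¹) := congrArg Subtype.val hxk
  refine ⟨x ^ k, P.pow_mem hxP k, ?_, ?_⟩
  · rw [Nat.Coprime.orderOf_pow, hx]
    rw [hx]
    exact (Nat.Prime.coprime_iff_not_dvd (by norm_num)).2 hk
  · rw [hxk']
    calc ρ _ ≤ ρ (a * z ^ m * a⁻¹) + ρ (b * z ^ n * b⁻¹) := hmul _ _
      _ ≤ ρ z + ρ z := Nat.add_le_add ((hconj _ _).trans (hpow _ _)) ((hconj _ _).trans (hpow _ _))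
      _ ≤ _ := by omega

/-! ### The index bound -/

/-- `|N(P) : C(P)|` divides 10 -/
theorem relIndex_cent_dvd {P M : Subgroup G} (hP : Nat.card ↥P = 11) (hM : M ≤ normalizer (P : Set G)) :
    (centralizer (P : Set G)).relIndex M ∣ 10 := by
  have : Fact (Nat.Prime 11) := ⟨by norm_num⟩
  have hf : Finite ↥P := Nat.finite_of_card_ne_zero (by rw [hP]; norm_num)
  have hc : IsCyclic ↥P := isCyclic_of_prime_card hP
  let φ : ↥M →* MulAut ↥P := P.normalizerMonoidHom.comp (inclusion hM)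
  have hker : φ.ker = (centralizer (P : Set G)).subgroupOf M := by
    ext m
    rw [MonoidHom.mem_ker, mem_subgroupOf]
    show P.normalizerMonoidHom (inclusion hM m) = 1 ↔ _
    rw [← MonoidHom.mem_ker, normalizerMonoidHom_ker, mem_subgroupOf]
    rfl
  have h1 : (centralizer (P : Set G)).relIndex M = Nat.card φ.range := by
    rw [relIndex, ← hker, index_ker]
  rw [h1]
  have h2 : Nat.card (MulAut ↥P) = 10 := by
    rw [hc.card_mulAut, hP]
    decide
  rw [← h2]
  exact card_subgroup_dvd_card _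

theorem Cfg.relIndex_dvd [Finite G] (h : Cfg P) (hl : Loc P) {M : Subgroup G} (hM : M ≠ ⊤) (hPM : P ≤ M) :
    (centralizer (P : Set G)).relIndex M ∣ 15960 := by
  have : Fact (Nat.Prime 11) := ⟨by norm_num⟩
  rcases hl M hM hPM with h1 | ⟨L, hLM, hPL, hL, hML⟩
  · exact (relIndex_cent_dvd h.card h1).trans (by norm_num)
  · -- `|M : N_M(P)| = |L : N_L(P)|`
    have e1 : (normalizer (P : Set G)).relIndex M = (normalizer (P : Set G)).relIndex L := by
      let f := quotientSubgroupOfEmbeddingOfLE (normalizer (P : Set G)) hLM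
      have hf : Function.Surjective f := by
        intro q
        obtain ⟨m, rfl⟩ := QuotientGroup.mk_surjective q
        -- a conjugate of `P`
        have hle : cj m.1 P ≤ L := by
          have h2 : cj m.1 P ≤ cj m.1 L := cj_mono hPL
          rwa [cj_eq_iff.2 (hML m.2)] at h2
        have hgf := hL.gf
        have hsq : ¬ 11 ^ 2 ∣ Nat.card ↥L := by
          rcases hgf.card with hc | hc
          · rw [hc]; norm_num
          · rw [hc]; norm_num
        obtain ⟨l, hl'⟩ := exists_conj_eq (A := (cj m.1 P).subgroupOf L) (B := P.subgroupOf L) (r := 11) hsq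
          (by rw [Nat.card_congr (subgroupOfEquivOfLe hle).toEquiv, card_cj, h.card])
          (by rw [Nat.card_congr (subgroupOfEquivOfLe hPL).toEquiv, h.card])
        refine ⟨QuotientGroup.mk l, ?_⟩
        show f (QuotientGroup.mk l) = _
        rw [quotientSubgroupOfEmbeddingOfLE_apply_mk, QuotientGroup.eq, mem_subgroupOf]
        show (l.1)⁻¹ * m.1 ∈ _
        rw [← cj_eq_iff, cj_mul]
        have h3 : cj m.1 P = cj l.1 P := by
          ext z
          constructor
          · intro hz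
            have hzL : z ∈ L := hle hz
            have h4 : (⟨z, hzL⟩ : ↥L) ∈ (cj m.1 P).subgroupOf L := by rw [mem_subgroupOf]; exact hz
            rw [← hl'] at h4
            obtain ⟨w, hw, hwz⟩ := h4
            rw [SetLike.mem_coe, mem_subgroupOf] at hw
            exact ⟨w.1, hw, congrArg Subtype.val hwz⟩
          · rintro ⟨w, hw, rfl⟩
            have h4 : l * ⟨w, hPL hw⟩ * l⁻¹ ∈ (cj m.1 P).subgroupOf L := by
              rw [← hl']
              refine ⟨⟨w, hPL hw⟩, ?_, rfl⟩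
              rw [SetLike.mem_coe, mem_subgroupOf]; exact hw
            rw [mem_subgroupOf] at h4
            exact h4
        rw [h3, cj_inv_cj]
      exact (Nat.card_congr (Equiv.ofBijective f ⟨f.injective, hf⟩)).symm
    have e2 : (normalizer (P : Set G)).relIndex L = (normalizer ((P.subgroupOf L : Subgroup ↥L) : Set ↥L)).index := by
      rw [relIndex, subgroupOf_normalizer_eq hPL]
    have h3 := hL.gf.idx (P.subgroupOf L) (by rw [Nat.card_congr (subgroupOfEquivOfLe hPL).toEquiv, h.card])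
    rw [← e2, ← e1] at h3
    -- `|N_M(P) : C_M(P)|` divides 10
    have h4 : (centralizer (P : Set G)).relIndex (M ⊓ normalizer (P : Set G)) ∣ 10 :=
      relIndex_cent_dvd h.card inf_le_right
    have h5 : (centralizer (P : Set G)).relIndex M =
        (centralizer (P : Set G)).relIndex (M ⊓ normalizer (P : Set G)) * (normalizer (P : Set G)).relIndex M := by
      have h6 := relIndex_mul_relIndex (M ⊓ centralizer (P : Set G)) (M ⊓ normalizer (P : Set G)) M
        (inf_le_inf_left _ (Subgroup.centralizer_le_normalizer _)) inf_le_left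
      rw [inf_relIndex_left, inf_relIndex_left] at h6
      rw [← h6]
      congr 1
      have h7 : M ⊓ centralizer (P : Set G) = (centralizer (P : Set G)) ⊓ (M ⊓ normalizer (P : Set G)) := by
        ext z
        constructor
        · rintro ⟨h8, h9⟩; exact ⟨h9, h8, Subgroup.centralizer_le_normalizer _ h9⟩
        · rintro ⟨h8, h9, -⟩; exact ⟨h9, h8⟩
      rw [h7, inf_relIndex_right]
    rw [h5]
    exact (mul_dvd_mul_right h4 _).trans h3

end Cfsg.Agent.H43.Eleven
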