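import Cfsg.Agent.H413.JOneSpec
import Cfsg.Agent.H43.Eleven.Wit

/-!
# Witnesses in the Janko group `J₁`
-/

set_option autoImplicit false

namespace Cfsg.Agent.H43.Eleven.JF

open Subgroup
open Cfsg.Agent.SporadicB.J1.Mat Cfsg.Agent.SporadicB.J1.Data
open Cfsg.Agent.SporadicB.J1.Main
open Cfsg.Spor (jankoX jankoY J1)
open Cfsg.Agent.H413.JOneLocal Cfsg.Agent.H413.JOneSpec

/-- an element of order 11 -/
def x : J1 := ev [0, 1, 1]
/-- another element of order 11 -/
def x' : J1 := ev [1, 1, 0]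
/-- an element with `y x y⁻¹ = x ^ 2` -/
def y : J1 := ev [2, 3, 3, 0, 3, 0, 3, 2, 2, 3, 0, 1]

theorem hx : orderOf x = 11 := by
  have : Fact (Nat.Prime 11) := ⟨by norm_num⟩
  exact orderOf_eq_prime (((rep_ev _).pow 11).eq Rep.one (by decide +kernel)) ((rep_ev _).ne Rep.one (by decide +kernel))

theorem hx' : orderOf x' = 11 := by
  have : Fact (Nat.Prime 11) := ⟨by norm_num⟩
  exact orderOf_eq_prime (((rep_ev _).pow 11).eq Rep.one (by decide +kernel)) ((rep_ev _).ne Rep.one (by decide +kernel))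

theorem hxx' : orderOf (x * x') = 19 := by
  have : Fact (Nat.Prime 19) := ⟨by norm_num⟩
  exact orderOf_eq_prime ((((rep_ev _).mul (rep_ev _)).pow 19).eq Rep.one (by decide +kernel))
    (((rep_ev _).mul (rep_ev _)).ne Rep.one (by decide +kernel))

theorem hy : y * x * y⁻¹ = x ^ 2 := by
  have h : y * x = x ^ 2 * y := ((rep_ev _).mul (rep_ev _)).eq (((rep_ev _).pow 2).mul (rep_ev _)) (by decide +kernel)
  rw [h, mul_inv_cancel_right]

theorem p3 : ∃ a b : J1, orderOf a = 3 ∧ orderOf b = 3 ∧ orderOf (a * b) = 11 := by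
  have : Fact (Nat.Prime 11) := ⟨by norm_num⟩
  refine ⟨ev [0, 1, 1, 1, 0] ^ 2, ev [1, 0, 0, 0, 1] ^ 2, ?_, ?_, ?_⟩
  · exact orderOf_eq_prime ((((rep_ev _).pow 2).pow 3).eq Rep.one (by decide +kernel))
      (((rep_ev _).pow 2).ne Rep.one (by decide +kernel))
  · exact orderOf_eq_prime ((((rep_ev _).pow 2).pow 3).eq Rep.one (by decide +kernel))
      (((rep_ev _).pow 2).ne Rep.one (by decide +kernel))
  · exact orderOf_eq_prime (((((rep_ev _).pow 2).mul ((rep_ev _).pow 2)).pow 11).eq Rep.one (by decide +kernel))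
      ((((rep_ev _).pow 2).mul ((rep_ev _).pow 2)).ne Rep.one (by decide +kernel))

theorem p5 : ∃ a b : J1, orderOf a = 5 ∧ orderOf b = 5 ∧ orderOf (a * b) = 11 := by
  have : Fact (Nat.Prime 11) := ⟨by norm_num⟩
  have : Fact (Nat.Prime 5) := ⟨by norm_num⟩
  refine ⟨ev [1], ev [0, 1, 1, 0, 1], ?_, ?_, ?_⟩
  · exact orderOf_eq_prime (((rep_ev _).pow 5).eq Rep.one (by decide +kernel))
      ((rep_ev _).ne Rep.one (by decide +kernel))
  · exact orderOf_eq_prime (((rep_ev _).pow 5).eq Rep.one (by decide +kernel))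
      ((rep_ev _).ne Rep.one (by decide +kernel))
  · exact orderOf_eq_prime ((((rep_ev _).mul (rep_ev _)).pow 11).eq Rep.one (by decide +kernel))
      (((rep_ev _).mul (rep_ev _)).ne Rep.one (by decide +kernel))

theorem p7 : ∃ a b : J1, orderOf a = 7 ∧ orderOf b = 7 ∧ orderOf (a * b) = 11 := by
  have : Fact (Nat.Prime 11) := ⟨by norm_num⟩
  have : Fact (Nat.Prime 7) := ⟨by norm_num⟩
  refine ⟨ev [0], ev [1, 0, 1, 0, 0, 1, 1, 1], ?_, ?_, ?_⟩
  · exact orderOf_eq_prime (((rep_ev _).pow 7).eq Rep.one (by decide +kernel))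
      ((rep_ev _).ne Rep.one (by decide +kernel))
  · exact orderOf_eq_prime (((rep_ev _).pow 7).eq Rep.one (by decide +kernel))
      ((rep_ev _).ne Rep.one (by decide +kernel))
  · exact orderOf_eq_prime ((((rep_ev _).mul (rep_ev _)).pow 11).eq Rep.one (by decide +kernel))
      (((rep_ev _).mul (rep_ev _)).ne Rep.one (by decide +kernel))

theorem p19 : ∃ a b : J1, orderOf a = 19 ∧ orderOf b = 19 ∧ orderOf (a * b) = 11 := by
  have : Fact (Nat.Prime 11) := ⟨by norm_num⟩
  have : Fact (Nat.Prime 19) := ⟨by norm_num⟩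
  refine ⟨ev [0, 0, 0, 1], ev [1, 0, 1, 1, 1], ?_, ?_, ?_⟩
  · exact orderOf_eq_prime (((rep_ev _).pow 19).eq Rep.one (by decide +kernel))
      ((rep_ev _).ne Rep.one (by decide +kernel))
  · exact orderOf_eq_prime (((rep_ev _).pow 19).eq Rep.one (by decide +kernel))
      ((rep_ev _).ne Rep.one (by decide +kernel))
  · exact orderOf_eq_prime ((((rep_ev _).mul (rep_ev _)).pow 11).eq Rep.one (by decide +kernel))
      (((rep_ev _).mul (rep_ev _)).ne Rep.one (by decide +kernel))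

theorem wit : Wit J1 where
  fin := inferInstance
  simple := isJ1.1
  no4 := by
    intro g hg
    rcases even_case isLocal (g := g) (by rw [hg]; norm_num) with h | h
    · rw [hg] at h; norm_num at h
    · rw [hg] at h; norm_num at h
  ck := ⟨x, y, 2, hx, hy, Or.inr ⟨rfl, card_J1⟩⟩
  prod := by
    intro r hr h2 h11 hd
    rw [card_J1] at hd
    have h : r ∣ 2 ^ 3 * 3 * 5 * 7 * 11 * 19 := hd
    rw [Nat.Prime.dvd_mul hr, Nat.Prime.dvd_mul hr, Nat.Prime.dvd_mul hr, Nat.Prime.dvd_mul hr,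
      Nat.Prime.dvd_mul hr] at h
    rcases h with ((((h | h) | h) | h) | h) | h
    · exact absurd ((Nat.prime_dvd_prime_iff_eq hr Nat.prime_two).1 (hr.dvd_of_dvd_pow h)) h2
    · rw [(Nat.prime_dvd_prime_iff_eq hr (by norm_num)).1 h]; exact p3
    · rw [(Nat.prime_dvd_prime_iff_eq hr (by norm_num)).1 h]; exact p5
    · rw [(Nat.prime_dvd_prime_iff_eq hr (by norm_num)).1 h]; exact p7
    · exact absurd ((Nat.prime_dvd_prime_iff_eq hr (by norm_num)).1 h) h11
    · rw [(Nat.prime_dvd_prime_iff_eq hr (by norm_num)).1 h]; exact p19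

end Cfsg.Agent.H43.Eleven.JF
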