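import Cfsg.Agent.H43.Eleven.Core

/-!
# S3403: reduction to simple groups

`good_of_rows` : if `Row X` holds for all finite simple groups `X`, the theorem holds.
-/

set_option autoImplicit false

namespace Cfsg.Agent.H43.Eleven

open Subgroup

universe u v

variable {G : Type u} [Group G]

theorem Cfg.ne_bot {P : Subgroup G} (h : Cfg P) : P ≠ ⊥ := by
  rintro rfl
  have := h.card
  rw [card_bot] at this
  omega

/-- transport along an injective homomorphism on `P ⊔ P^g` -/
theorem Cfg.of_subgroup {P K : Subgroup G} (h : Cfg P) (hPK : P ≤ K) : Cfg (P.subgroupOf K) where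
  card := by rw [Nat.card_congr (subgroupOfEquivOfLe hPK).toEquiv, h.card]
  pair := by
    intro g hg
    have e1 : (cj g (P.subgroupOf K)).map K.subtype = cj g.1 P := by
      ext z
      constructor
      · rintro ⟨_, ⟨w, hw, rfl⟩, rfl⟩
        exact ⟨w.1, hw, rfl⟩
      · rintro ⟨w, hw, rfl⟩
        exact ⟨_, ⟨⟨w, hPK hw⟩, hw, rfl⟩, rfl⟩
    have e2 : (P.subgroupOf K).map K.subtype = P := by
      rw [subgroupOf_map_subtype, inf_eq_left.2 hPK]
    have hne : cj g.1 P ≠ P := by
      intro hc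
      apply hg
      apply map_injective K.subtype_injective
      rw [e1, e2, hc]
    have h1 := h.pair g.1 hne
    have e3 : P ⊔ cj g.1 P = (P.subgroupOf K ⊔ cj g (P.subgroupOf K)).map K.subtype := by
      rw [Subgroup.map_sup, e1, e2]
    rw [e3] at h1
    exact h1.congr ((P.subgroupOf K ⊔ cj g (P.subgroupOf K)).equivMapOfInjective _ K.subtype_injective).symm

/-- `P` is isolated in each 11-subgroup containing it -/
theorem Cfg.le_normalizer_of_isPGroup {P S : Subgroup G} [Finite G] (h : Cfg P) (hS : IsPGroup 11 ↥S) (hPS : P ≤ S) :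
    S ≤ normalizer (P : Set G) := by
  have : Fact (Nat.Prime 11) := ⟨by norm_num⟩
  have hn : Group.IsNilpotent ↥S := hS.isNilpotent
  have hs : Group.IsSolvable ↥S := inferInstance
  exact h.solv (hPS.trans le_normalizer)

theorem Cfg.eq_of_mem_pgroup {P S : Subgroup G} [Finite G] (h : Cfg P) (hS : IsPGroup 11 ↥S) (hPS : P ≤ S) {g : G}
    (hg : cj g P ≤ S) : cj g P = P :=
  h.eq_of_le_normalizer (hg.trans (h.le_normalizer_of_isPGroup hS hPS))

/-- conjugates of `P` inside `K ≥ P` are `K`-conjugates -/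
theorem Cfg.conj_in {P K : Subgroup G} [Finite G] (h : Cfg P) (hPK : P ≤ K) {m : G} (hm : cj m P ≤ K) :
    ∃ k ∈ K, cj m P = cj k P := by
  have : Fact (Nat.Prime 11) := ⟨by norm_num⟩
  have hpg : ∀ {R : Subgroup G}, Nat.card ↥R = 11 → R ≤ K → ∃ S : Sylow 11 ↥K, R.subgroupOf K ≤ S := by
    intro R hR hRK
    apply IsPGroup.exists_le_sylow
    apply IsPGroup.of_card (n := 1)
    rw [Nat.card_congr (subgroupOfEquivOfLe hRK).toEquiv, hR, pow_one]
  obtain ⟨S, hS⟩ := hpg h.card hPK
  obtain ⟨T, hT⟩ := hpg (R := cj m P) (by rw [card_cj, h.card]) hm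
  obtain ⟨k, hk⟩ := MulAction.exists_smul_eq (↥K) S T
  refine ⟨k.1, k.2, ?_⟩
  -- both conjugates lie in the image of `T`
  let T' : Subgroup G := (T : Subgroup ↥K).map K.subtype
  have hT' : IsPGroup 11 ↥T' := T.isPGroup'.map _
  have h1 : cj m P ≤ T' := by
    intro z hz
    exact ⟨⟨z, hm hz⟩, hT hz, rfl⟩
  have h2 : cj k.1 P ≤ T' := by
    rintro _ ⟨w, hw, rfl⟩
    refine ⟨k * ⟨w, hPK hw⟩ * k⁻¹, ?_, rfl⟩
    rw [← hk]
    exact ⟨⟨w, hPK hw⟩, hS hw, rfl⟩
  have h3 := (h.conj k.1).eq_of_mem_pgroup hT' h2 (g := m * (k.1)⁻¹) (by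
    rw [← cj_mul, inv_mul_cancel_right]; exact h1)
  rw [← cj_mul, inv_mul_cancel_right] at h3
  exact h3

/-- The statement. -/
def Stmt (H : Type u) [Group H] : Prop :=
  ∀ P : Subgroup H, Cfg P → (∃ g : H, cj g P ≠ P) → normalClosure (P : Set H) = ⊤ → Good H

/-- the induction hypothesis gives `Loc` -/
theorem loc_of_stmt {P : Subgroup G} [Finite G] (h : Cfg P)
    (ih : ∀ K : Subgroup G, K ≠ ⊤ → Stmt ↥K) : Loc P := by
  intro M hM hPM
  by_cases hN : M ≤ normalizer (P : Set G)
  · exact Or.inl hN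
  refine Or.inr ?_
  let K : Subgroup G := ⨆ m : ↥M, cj m.1 P
  have hcK : ∀ m ∈ M, cj m P ≤ K := fun m hm => le_iSup (fun m : ↥M => cj m.1 P) ⟨m, hm⟩
  have hKM : K ≤ M := iSup_le fun m => cj_le_self hPM m.2
  have hPK : P ≤ K := by
    have := hcK 1 M.one_mem
    rwa [cj_one] at this
  have hMK : M ≤ normalizer (K : Set G) := by
    intro m hm
    rw [← cj_eq_iff]
    refine eq_of_le_of_card_ge ?_ (by rw [card_cj])
    show map _ K ≤ K
    rw [Subgroup.map_iSup]
    refine iSup_le fun n => ?_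
    have := hcK (m * n.1) (M.mul_mem hm n.2)
    rwa [cj_mul] at this
  refine ⟨K, hKM, hPK, ?_, hMK⟩
  refine ih K (fun hc => hM (top_le_iff.1 (hc ▸ hKM))) (P.subgroupOf K) (h.of_subgroup hPK) ?_ ?_
  · by_contra hc
    push Not at hc
    apply hN
    intro m hm
    rw [← cj_eq_iff]
    obtain ⟨k, hk, hmk⟩ := h.conj_in hPK (hcK m hm)
    rw [hmk]
    have h1 := hc ⟨k, hk⟩
    apply eq_of_le_of_card_ge _ (by rw [card_cj])
    rintro _ ⟨w, hw, rfl⟩
    have h2 : (⟨k, hk⟩ : ↥K) * ⟨w, hPK hw⟩ * ⟨k, hk⟩⁻¹ ∈ P.subgroupOf K := by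
      rw [← h1]
      exact ⟨⟨w, hPK hw⟩, hw, rfl⟩
    exact h2
  · set N := normalClosure ((P.subgroupOf K : Subgroup ↥K) : Set ↥K) with hNdef
    have h1 : K ≤ N.map K.subtype := by
      refine iSup_le fun m => ?_
      obtain ⟨k, hk, hmk⟩ := h.conj_in hPK (hcK m.1 m.2)
      rw [hmk]
      rintro _ ⟨w, hw, rfl⟩
      refine ⟨⟨k, hk⟩ * ⟨w, hPK hw⟩ * ⟨k, hk⟩⁻¹, ?_, rfl⟩
      exact (normalClosure_normal (s := ((P.subgroupOf K : Subgroup ↥K) : Set ↥K))).conj_mem _
        (subset_normalClosure hw) _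
    rw [eq_top_iff]
    intro z _
    obtain ⟨w, hw, hwz⟩ := h1 z.2
    have : w = z := Subtype.ext hwz
    rwa [← this]

/-- in a `Good` group some pair generates everything -/
theorem exists_top {P : Subgroup G} (h : Cfg P) (hG : Good G) : ∃ g : G, cj g P ≠ P ∧ P ⊔ cj g P = ⊤ := by
  have : Fact (Nat.Prime 11) := ⟨by norm_num⟩
  have hgf := hG.gf
  have hfin := hgf.fin
  have hsimp := hgf.simple
  have hcard : ∀ g : G, cj g P ≠ P → Nat.card G ∣ Nat.card ↥(P ⊔ cj g P) → P ⊔ cj g P = ⊤ := by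
    intro g _ hd
    apply eq_top_of_card_eq
    exact Nat.dvd_antisymm (card_subgroup_dvd_card _) hd
  by_cases h660 : Nat.card G = 660
  · have hnn : ¬ P.Normal := by
      intro hn
      rcases hn.eq_bot_or_eq_top with h0 | h1
      · exact h.ne_bot h0
      · have := h.card
        rw [h1, card_top, h660] at this
        omega
    have hex : ∃ g : G, cj g P ≠ P := by
      by_contra hc
      push Not at hc
      apply hnn
      refine ⟨fun n hn g => ?_⟩
      rw [← hc g]
      exact conj_mem_cj hn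
    obtain ⟨g, hg⟩ := hex
    refine ⟨g, hg, hcard g hg ?_⟩
    have h1 := (h.pair g hg).gf.card
    have h2 := card_subgroup_dvd_card (P ⊔ cj g P)
    rw [h660] at h2 ⊢
    rcases h1 with h1 | h1
    · rw [h1]
    · rw [h1] at h2; norm_num at h2
  · have hc : Nat.card G = 175560 := hgf.card.resolve_left h660
    have hex : ∃ a b : G, orderOf a = 11 ∧ orderOf b = 11 ∧ orderOf (a * b) = 19 := by
      rcases hG with ⟨⟨e⟩⟩ | ⟨⟨e⟩⟩
      · exfalso
        rw [Nat.card_congr e.toEquiv, PF.card] at hc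
        omega
      · refine ⟨e.symm JF.x, e.symm JF.x', ?_, ?_, ?_⟩
        · rw [MulEquiv.orderOf_eq, JF.hx]
        · rw [MulEquiv.orderOf_eq, JF.hx']
        · rw [← map_mul, MulEquiv.orderOf_eq, JF.hxx']
    obtain ⟨a, b, ha, hb, hab⟩ := hex
    have hsq : ¬ 11 ^ 2 ∣ Nat.card G := by rw [hc]; norm_num
    obtain ⟨g1, hg1⟩ := exists_conj_eq (A := P) (B := zpowers a) hsq h.card (by rw [Nat.card_zpowers, ha])
    obtain ⟨g2, hg2⟩ := exists_conj_eq (A := zpowers b) (B := P) hsq (by rw [Nat.card_zpowers, hb]) h.card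
    have ha' : g1 * a * g1⁻¹ ∈ P := by rw [← hg1]; exact ⟨a, mem_zpowers a, rfl⟩
    have hb' : g1 * b * g1⁻¹ ∈ cj (g1 * g2) P := by
      rw [cj_mul]
      refine conj_mem_cj ?_
      show b ∈ map _ P
      rw [hg2]; exact mem_zpowers b
    have hmem : g1 * (a * b) * g1⁻¹ ∈ P ⊔ cj (g1 * g2) P := by
      have e : g1 * (a * b) * g1⁻¹ = (g1 * a * g1⁻¹) * (g1 * b * g1⁻¹) := by group
      rw [e]
      exact mul_mem (mem_sup_left ha') (mem_sup_right hb')
    have h19 : 19 ∣ Nat.card ↥(P ⊔ cj (g1 * g2) P) := by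
      have h1 := orderOf_dvd_natCard (⟨_, hmem⟩ : ↥(P ⊔ cj (g1 * g2) P))
      rw [orderOf_mk] at h1
      have h2 : orderOf (g1 * (a * b) * g1⁻¹) = 19 := by
        rw [← hab]
        exact (MulAut.conj g1).orderOf_eq (a * b)
      rwa [h2] at h1
    have hne : cj (g1 * g2) P ≠ P := by
      intro hc
      rw [hc, sup_idem, h.card] at h19
      norm_num at h19
    refine ⟨_, hne, hcard _ hne ?_⟩
    rcases (h.pair _ hne).gf.card with h1 | h1
    · rw [h1] at h19; norm_num at h19
    · rw [h1, hc]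

/-- The step from `G/Z(G)` to `G`. -/
theorem good_of_quot {P : Subgroup G} [Finite G] (h : Cfg P) (hne : ∃ g : G, cj g P ≠ P)
    (hgen : normalClosure (P : Set G) = ⊤) (ih : ∀ (K : Type u) [Group K] [Finite K], Nat.card K < Nat.card G → Stmt K)
    (hrow : ∀ (X : Type u) [Group X] [Finite X] [IsSimpleGroup X], Row X) : Good G := by
  have : Fact (Nat.Prime 11) := ⟨by norm_num⟩
  -- proper normal subgroups are central
  have hcen : ∀ N : Subgroup G, N.Normal → N = ⊤ ∨ N ≤ center G := by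
    intro N hN
    have hPN : P ≤ normalizer (N : Set G) := by rw [normalizer_eq_top]; exact le_top
    rcases h.nrm hPN with h1 | h1
    · left
      rw [eq_top_iff, ← hgen]
      exact normalClosure_le_normal h1
    · right
      have h2 : P ≤ centralizer (N : Set G) := by
        rw [le_centralizer_iff]; exact h1
      have h3 : (⊤ : Subgroup G) ≤ centralizer (N : Set G) := by
        rw [← hgen]
        exact normalClosure_le_normal h2
      intro n hn
      rw [mem_center_iff]
      intro g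
      exact (mem_centralizer_iff.1 (h3 (mem_top g)) n hn).symm
  have hPZ : ¬ P ≤ center G := by
    intro hc
    obtain ⟨g, hg⟩ := hne
    apply hg
    rw [cj_eq_iff]
    apply Subgroup.centralizer_le_normalizer
    rw [mem_centralizer_iff]
    intro p hp
    exact (mem_center_iff.1 (hc hp) g).symm
  have hZt : center G ≠ ⊤ := fun hc => hPZ (hc ▸ le_top)
  set Z := center G with hZ
  let π : G →* G ⧸ Z := QuotientGroup.mk' Z
  have hπ : Function.Surjective π := QuotientGroup.mk'_surjective Z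
  have hker : π.ker = Z := QuotientGroup.ker_mk' Z
  -- the quotient is simple
  have hsimp : IsSimpleGroup (G ⧸ Z) := by
    have hnt : Nontrivial (G ⧸ Z) := by
      rw [QuotientGroup.nontrivial_iff]
      exact hZt
    refine { toNontrivial := hnt, eq_bot_or_eq_top_of_normal := ?_ }
    intro H hH
    have hn : (H.comap π).Normal := hH.comap π
    rcases hcen _ hn with h1 | h1
    · right
      rw [← map_comap_eq_self_of_surjective hπ H, h1, ← MonoidHom.range_eq_map, MonoidHom.range_eq_top.2 hπ]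
    · left
      rw [← map_comap_eq_self_of_surjective hπ H, eq_bot_iff]
      rintro _ ⟨z, hz, rfl⟩
      rw [mem_bot, ← MonoidHom.mem_ker, hker]
      exact h1 hz
  -- good subgroups embed
  have hgood : ∀ L : Subgroup G, Good ↥L → L ⊓ Z = ⊥ := by
    intro L hL
    have hs := hL.gf.simple
    have hn : (Z.subgroupOf L).Normal := inferInstance
    rcases hn.eq_bot_or_eq_top with h0 | h1
    · rw [subgroupOf_eq_bot] at h0
      exact (h0.eq_bot ▸ inf_comm L Z)
    · exfalso
      have hLZ := subgroupOf_eq_top.1 h1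
      obtain ⟨a, b, hab⟩ := hL.gf.ncomm
      apply hab
      apply Subtype.ext
      exact (mem_center_iff.1 (hLZ b.2) a.1)
  have hinj : ∀ L : Subgroup G, L ⊓ Z = ⊥ → Nonempty (↥L ≃* ↥(L.map π)) := by
    intro L hL
    refine ⟨MulEquiv.ofBijective (π.subgroupMap L) ⟨?_, π.subgroupMap_surjective L⟩⟩
    rw [← MonoidHom.ker_eq_bot_iff, eq_bot_iff]
    intro z hz
    rw [MonoidHom.mem_ker] at hz
    have h1 : π z.1 = 1 := congrArg Subtype.val hz
    rw [← MonoidHom.mem_ker, hker] at h1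
    have h2 : z.1 ∈ L ⊓ Z := ⟨z.2, h1⟩
    rw [hL, mem_bot] at h2
    rw [mem_bot]
    exact Subtype.ext h2
  have hcj : ∀ g : G, (cj g P).map π = cj (π g) (P.map π) := by
    intro g
    ext z
    constructor
    · rintro ⟨_, ⟨w, hw, rfl⟩, rfl⟩
      refine ⟨π w, ⟨w, hw, rfl⟩, ?_⟩
      show π g * π w * (π g)⁻¹ = π (g * w * g⁻¹)
      simp
    · rintro ⟨_, ⟨w, hw, rfl⟩, rfl⟩
      refine ⟨g * w * g⁻¹, conj_mem_cj hw, ?_⟩
      show π (g * w * g⁻¹) = π g * π w * (π g)⁻¹
      simp
  have hcfg : Cfg (P.map π) := by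
    constructor
    · obtain ⟨e⟩ := hinj P (inf_eq_bot_of_not_le h.card hPZ)
      rw [← Nat.card_congr e.toEquiv, h.card]
    · intro q hq
      obtain ⟨g, rfl⟩ := hπ q
      have hg : cj g P ≠ P := by
        intro hc
        apply hq
        rw [← hcj, hc]
      have hL := h.pair g hg
      obtain ⟨e⟩ := hinj _ (hgood _ hL)
      rw [← hcj, ← Subgroup.map_sup]
      exact hL.congr e
  have hcardle : Nat.card (G ⧸ Z) ≤ Nat.card G := Nat.card_le_card_of_surjective _ hπ
  have hloc : Loc (P.map π) := by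
    refine loc_of_stmt hcfg ?_
    intro K hK
    refine ih ↥K (lt_of_lt_of_le ?_ hcardle)
    exact lt_of_le_of_ne (card_le_card_group K) (fun hc => hK (eq_top_of_card_eq K hc))
  -- the quotient is not commutative
  have hncomm : ∃ a b : G ⧸ Z, a * b ≠ b * a := by
    by_contra hc
    push Not at hc
    obtain ⟨g, hg⟩ := hne
    have hL := h.pair g hg
    obtain ⟨a, b, hab⟩ := hL.gf.ncomm
    obtain ⟨e⟩ := hinj _ (hgood _ hL)
    apply hab
    apply e.injective
    rw [map_mul, map_mul]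
    exact Subtype.ext (hc _ _)
  have hQ : Good (G ⧸ Z) := hrow (G ⧸ Z) hncomm (P.map π) hcfg hloc
  obtain ⟨q, hq, htop⟩ := exists_top hcfg hQ
  obtain ⟨g, rfl⟩ := hπ q
  have hg : cj g P ≠ P := by
    intro hc
    apply hq
    rw [← hcj, hc]
  rw [← hcj, ← Subgroup.map_sup] at htop
  have hL := h.pair g hg
  set L := P ⊔ cj g P with hLdef
  -- `L` is normal
  have hLZ : ∀ x : G, ∃ l ∈ L, ∃ z ∈ Z, x = l * z := by
    intro x
    have hx : π x ∈ L.map π := by rw [htop]; exact mem_top _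
    obtain ⟨l, hl, hlx⟩ := hx
    refine ⟨l, hl, l⁻¹ * x, ?_, by group⟩
    rw [← hker, MonoidHom.mem_ker, map_mul, map_inv, hlx, inv_mul_cancel]
  have hLn : L.Normal := by
    refine ⟨fun n hn x => ?_⟩
    obtain ⟨l, hl, z, hz, rfl⟩ := hLZ x
    have hzn : z * n * z⁻¹ = n := by
      rw [mul_inv_eq_iff_eq_mul]
      exact (mem_center_iff.1 hz n).symm
    have e : l * z * n * (l * z)⁻¹ = l * (z * n * z⁻¹) * l⁻¹ := by group
    rw [e, hzn]
    exact L.mul_mem (L.mul_mem hl hn) (L.inv_mem hl)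
  have hLtop : L = ⊤ := by
    rw [eq_top_iff, ← hgen]
    exact normalClosure_le_normal (le_sup_left : P ≤ L)
  rw [hLtop] at hL
  exact hL.congr topEquiv

/-- **The theorem, given the rows for the simple groups.** -/
theorem good_of_rows (hrow : ∀ (X : Type u) [Group X] [Finite X] [IsSimpleGroup X], Row X)
    (n : ℕ) : ∀ (H : Type u) [Group H] [Finite H], Nat.card H = n → Stmt H := by
  induction n using Nat.strong_induction_on with
  | _ n ih =>
    intro H _ _ hn P hP hne hgen
    refine good_of_quot hP hne hgen ?_ hrow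
    intro K _ _ hK
    exact ih _ (hn ▸ hK) K rfl

end Cfsg.Agent.H43.Eleven
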